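import Groth.Agent.L24.KrullSchmidt.Descent
import Groth.Agent.L15.Ref.FreeLocus
import Groth.Agent.L18.LocFreeTilde

/-!
# Decomposition of isotypical bundles
-/

set_option autoImplicit false
set_option linter.style.haveILetI false
set_option backward.isDefEq.respectTransparency false
set_option backward.isDefEq.respectTransparency.types false

universe u v w

open CategoryTheory CategoryTheory.Limits AlgebraicGeometry
open Groth.L21.Weil (IsRetract)

noncomputable section

namespace Groth.L24.KrullSchmidt

/-- A retract of a finite locally free module is finite locally free. -/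
theorem isFinLocFree_retract {X : Scheme.{u}} [IsLocallyNoetherian X] {A M : X.Modules}
    (hM : FlatMod.IsFinLocFree M) (h : IsRetract A M) : FlatMod.IsFinLocFree A := by
  obtain ⟨j, p, hjp⟩ := h
  have hcM : Coh.IsCoh M := Groth.L16.NegPow.isCoh_of_isFinLocFree hM
  have h0 : j ≫ (𝟙 M - p ≫ j) = 0 := by
    rw [Preadditive.comp_sub, Category.comp_id, ← Category.assoc, hjp, Category.id_comp, sub_self]
  let e : kernel (𝟙 M - p ≫ j) ≅ A :=
    { hom := kernel.ι _ ≫ p
      inv := kernel.lift _ j h0
      hom_inv_id := by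
        have hc := kernel.condition (𝟙 M - p ≫ j)
        rw [Preadditive.comp_sub, Category.comp_id, sub_eq_zero] at hc
        rw [← cancel_mono (kernel.ι _), Category.assoc, kernel.lift_ι, Category.id_comp, Category.assoc, ← hc]
      inv_hom_id := by rw [kernel.lift_ι_assoc, hjp] }
  have hcA : Coh.IsCoh A :=
    Groth.L16.CohSupport.isCoh_of_iso e (Groth.L16.CohKernel.isCoh_kernel_cokernel hcM hcM _).1
  refine (Groth.L18.LFP.isFP_and_free_iff A).1 ⟨Groth.L15.Ref.isFP_of_isCoh hcA, fun x => ?_⟩
  haveI := Groth.L18.LFP.free_stalk M hM x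
  haveI : Module.Projective (X.presheaf.stalk x) ((Groth.L00.Stk.F X x).obj M) :=
    (inferInstance : Module.Projective (X.presheaf.stalk x) (M.presheaf.stalk x))
  have hs : ((Groth.L00.Stk.F X x).map j) ≫ ((Groth.L00.Stk.F X x).map p) = 𝟙 _ := by
    rw [← Functor.map_comp, hjp, CategoryTheory.Functor.map_id]
  haveI : Module.Projective (X.presheaf.stalk x) (A.presheaf.stalk x) :=
    Module.Projective.of_split ((Groth.L00.Stk.F X x).map j).hom ((Groth.L00.Stk.F X x).map p).hom
      (congrArg ModuleCat.Hom.hom hs)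
  haveI := Groth.L18.LFP.finite_stalk A (Groth.L15.Ref.isFP_of_isCoh hcA) x
  exact Module.free_of_flat_of_isLocalRing

/-- A member is a retract of the coproduct. -/
theorem isRetract_member {C : Type v} [Category.{w} C] [Abelian C] {ι : Type} [Finite ι] (f : ι → C) (i : ι) :
    IsRetract (f i) (∐ f) := by
  classical
  exact ⟨Sigma.ι f i, Sigma.desc fun l => if h : l = i then eqToHom (by rw [h]) else 0, by simp⟩

/-- A retract of a power of an indecomposable object is a power of it. -/
theorem exists_pow_of_retract {C : Type v} [Category.{w} C] [Abelian C] (k : Type u) [Field k] [Linear k C]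
    {L A : C} (hL : Indec L) [Module.Finite k (L ⟶ L)] [Module.Finite k (A ⟶ A)] {r : ℕ}
    (h : IsRetract A (∐ fun _ : Fin r => L)) : ∃ m : ℕ, Nonempty (A ≅ ∐ fun _ : Fin m => L) := by
  classical
  obtain ⟨m, f, hf, ⟨e⟩⟩ := exists_decomp k _ A rfl
  refine ⟨m, ⟨e ≪≫ Sigma.mapIso fun l => ?_⟩⟩
  haveI := finite_end_member k f e l
  have hle := cnt_le k f (fun _ : Fin r => L) (fun _ => hL) (fun _ => inferInstance) (hf l)
    ((IsRetract.of_iso e.symm).trans h)
  have hpos : 0 < cnt f (f l) := by
    haveI : Nonempty {i : Fin m // Nonempty (f i ≅ f l)} := ⟨⟨l, ⟨Iso.refl _⟩⟩⟩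
    exact Nat.card_pos
  exact (Classical.choice (Nat.card_pos_iff.1 (hpos.trans_le hle)).1).2.some.symm

end Groth.L24.KrullSchmidt
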