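import Mathlib.CategoryTheory.Abelian.Basic
import Mathlib.CategoryTheory.Linear.Basic
import Mathlib.CategoryTheory.Endomorphism
import Mathlib.FieldTheory.Minpoly.Field
import Mathlib.RingTheory.IntegralClosure.Algebra.Basic
import Mathlib.RingTheory.Polynomial.Basic
import Mathlib.Algebra.Polynomial.RingDivision
import Mathlib.RingTheory.Nilpotent.Basic

/-!
# Fitting's lemma for indecomposable objects with finite-dimensional endomorphism rings
-/

set_option autoImplicit false
set_option linter.style.haveILetI false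

universe u v w

open CategoryTheory CategoryTheory.Limits Polynomial

noncomputable section

namespace Groth.L24.KrullSchmidt

variable {C : Type v} [Category.{w} C] [Abelian C]

/-- Indecomposable object. -/
def Indec (Z : C) : Prop := ¬ IsZero Z ∧ ∀ A B : C, Nonempty (Z ≅ A ⊞ B) → IsZero A ∨ IsZero B

/-- An idempotent of an indecomposable object is trivial. -/
theorem idem_eq_zero_or_one {Z : C} (hZ : Indec Z) (e : Z ⟶ Z) (he : e ≫ e = e) : e = 0 ∨ e = 𝟙 Z := by
  let a : Z ⟶ Z := 𝟙 Z - e
  have ha : a + e = 𝟙 Z := sub_add_cancel _ _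
  have hae : a ≫ e = 0 := by simp [a, he]
  have hea : e ≫ a = 0 := by simp [a, he]
  have h1 : kernel.ι e ≫ a = kernel.ι e := by simp [a]
  have h2 : kernel.ι a ≫ e = kernel.ι a := by
    have := kernel.condition a
    rw [Preadditive.comp_sub, Category.comp_id, sub_eq_zero] at this
    exact this.symm
  let I : Z ≅ kernel e ⊞ kernel a :=
    { hom := biprod.lift (kernel.lift e a hae) (kernel.lift a e hea)
      inv := biprod.desc (kernel.ι e) (kernel.ι a)
      hom_inv_id := by rw [biprod.lift_desc, kernel.lift_ι, kernel.lift_ι, ha]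
      inv_hom_id := by
        apply biprod.hom_ext' <;> apply biprod.hom_ext <;> rw [← cancel_mono (kernel.ι _)] <;>
          simp [h1, h2, kernel.condition] }
  rcases hZ.2 _ _ ⟨I⟩ with h | h
  · refine Or.inr (sub_eq_zero.1 ?_).symm
    show a = 0
    rw [← kernel.lift_ι e a hae, h.eq_of_tgt (kernel.lift e a hae) 0, Limits.zero_comp]
  · refine Or.inl ?_
    rw [← kernel.lift_ι a e hea, h.eq_of_tgt (kernel.lift a e hea) 0, Limits.zero_comp]

variable (k : Type u) [Field k] [Linear k C]

include k in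
/-- Fitting's lemma. -/
theorem isUnit_or_isNilpotent {Z : C} (hZ : Indec Z) [Module.Finite k (Z ⟶ Z)] (f : End Z) :
    IsUnit f ∨ IsNilpotent f := by
  haveI : Module.Finite k (End Z) := ‹Module.Finite k (Z ⟶ Z)›
  have hint : IsIntegral k f := Algebra.IsIntegral.isIntegral f
  obtain ⟨q, hpq, hq⟩ := exists_eq_pow_rootMultiplicity_mul_and_not_dvd (minpoly k f)
    (minpoly.ne_zero hint) 0
  rw [map_zero, sub_zero] at hpq hq
  have hcop : IsCoprime ((X : k[X]) ^ (rootMultiplicity 0 (minpoly k f) + 1)) q :=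
    ((Polynomial.irreducible_X.coprime_iff_not_dvd).2 hq).pow_left
  obtain ⟨a, b, hab⟩ := hcop
  generalize hN : rootMultiplicity 0 (minpoly k f) + 1 = N at hab
  have h0 : aeval f (X ^ N * q) = 0 := by
    rw [← hN, pow_succ, mul_right_comm, ← hpq, map_mul, minpoly.aeval, zero_mul]
  let e : End Z := aeval f (a * X ^ N)
  have he : e * e = e := by
    have h : (a * X ^ N) * (a * X ^ N) + (a * b) * (X ^ N * q) = a * X ^ N := by
      calc (a * X ^ N) * (a * X ^ N) + (a * b) * (X ^ N * q) = a * X ^ N * (a * X ^ N + b * q) := by ring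
        _ = a * X ^ N := by rw [hab, mul_one]
    have h' := congrArg (aeval f) h
    rwa [map_add, map_mul _ (a * b), h0, mul_zero, add_zero, map_mul] at h'
  rcases idem_eq_zero_or_one hZ (show Z ⟶ Z from e) he with h | h
  · refine Or.inr ⟨N, ?_⟩
    have h' := congrArg (fun t => aeval f (X ^ N * t)) hab
    simp only [mul_one] at h'
    rw [map_pow, aeval_X] at h'
    rw [← h', show X ^ N * (a * X ^ N + b * q) = X ^ N * (a * X ^ N) + b * (X ^ N * q) by ring,
      map_add, map_mul _ b, h0, mul_zero, add_zero, map_mul]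
    exact (congrArg (aeval f (X ^ N) * ·) (h : e = 0)).trans (mul_zero _)
  · refine Or.inl (isUnit_iff_exists.2 ⟨aeval f (a * X ^ (N - 1)), ?_, ?_⟩)
    · have hpow : a * X ^ N = X * (a * X ^ (N - 1)) := by
        conv_lhs => rw [← Nat.sub_add_cancel (show 1 ≤ N by omega), pow_succ]
        ring
      have h' : aeval f (a * X ^ N) = 1 := h
      rwa [hpow, map_mul, aeval_X] at h'
    · have hpow : a * X ^ N = (a * X ^ (N - 1)) * X := by
        conv_lhs => rw [← Nat.sub_add_cancel (show 1 ≤ N by omega), pow_succ]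
        ring
      have h' : aeval f (a * X ^ N) = 1 := h
      rwa [hpow, map_mul, aeval_X] at h'

include k in
/-- Endomorphisms of such an object form a local ring. -/
theorem isUnit_or_isUnit_of_add {Z : C} (hZ : Indec Z) [Module.Finite k (Z ⟶ Z)] (f₁ f₂ : End Z)
    (h : IsUnit (f₁ + f₂)) : IsUnit f₁ ∨ IsUnit f₂ := by
  obtain ⟨u, hu⟩ := h
  rcases isUnit_or_isNilpotent k hZ (f₁ * ↑u⁻¹) with h1 | h1
  · exact Or.inl ((Units.isUnit_mul_units f₁ u⁻¹).1 h1)
  · refine Or.inr ((Units.isUnit_mul_units f₂ u⁻¹).1 ?_)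
    rw [show f₂ * ↑u⁻¹ = 1 - f₁ * ↑u⁻¹ by rw [eq_sub_iff_add_eq', ← add_mul, ← hu, Units.mul_inv]]
    exact h1.isUnit_one_sub

end Groth.L24.KrullSchmidt
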