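import Groth.Agent.L24.KrullSchmidt.Types

/-!
# Endomorphisms of indecomposable isotypical bundles form a division ring
-/

set_option autoImplicit false
set_option linter.style.haveILetI false
set_option backward.isDefEq.respectTransparency false
set_option backward.isDefEq.respectTransparency.types false

universe u

open CategoryTheory CategoryTheory.Limits AlgebraicGeometry

noncomputable section

namespace Groth.L24.KrullSchmidt

/-- Faithfully flat pullback is faithful. -/
theorem eq_zero_of_pullback {X Y : Scheme.{u}} (g : Y ⟶ X) [Flat g] [Surjective g] {A B : X.Modules} (f : A ⟶ B)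
    (h : (Scheme.Modules.pullback g).map f = 0) : f = 0 := by
  haveI := (Scheme.Modules.pullbackPushforwardAdjunction g).leftAdjoint_preservesColimits
  haveI := Groth.L03.ShStab.BC.mono_pullback g (Abelian.image.ι f)
  haveI : Epi ((Scheme.Modules.pullback g).map (Abelian.factorThruImage f)) := inferInstance
  rw [← Abelian.image.fac f, Functor.map_comp] at h
  have h1 : (Scheme.Modules.pullback g).map (Abelian.image.ι f) = 0 :=
    (cancel_epi ((Scheme.Modules.pullback g).map (Abelian.factorThruImage f))).1 (h.trans Limits.comp_zero.symm)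
  have hz : IsZero ((Scheme.Modules.pullback g).obj (Abelian.image f)) := by
    rw [IsZero.iff_id_eq_zero, ← cancel_mono ((Scheme.Modules.pullback g).map (Abelian.image.ι f)),
      Category.id_comp, Limits.zero_comp]
    exact h1
  rw [← Abelian.image.fac f, (Groth.L03.ShStab.BC.isZero_of_pullback g hz).eq_of_src (Abelian.image.ι f) 0,
    Limits.comp_zero]

variable {k : Type u} [Field k] {X : Scheme.{u}} [X.Over (Spec (CommRingCat.of k))]
  [IsProper (X ↘ Spec (CommRingCat.of k))]
  {K : Type u} [Field K] [Algebra k K] {Y : Scheme.{u}} [Y.Over (Spec (CommRingCat.of K))] (g : Y ⟶ X)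
  (sq : IsPullback g (Y ↘ Spec (CommRingCat.of K)) (X ↘ Spec (CommRingCat.of k))
    (Spec.map (CommRingCat.ofHom (algebraMap k K))))

include sq in
/-- A non-zero endomorphism of an indecomposable isotypical bundle is invertible. -/
theorem isIso_endo (hk : Function.Bijective (Coh.toGlobal (Y ↘ Spec (CommRingCat.of K))))
    {L L' : Y.Modules} (e : CohB1.tensorMod L L' ≅ Coh.structureModule Y)
    {E : X.Modules} (hE : FlatMod.IsFinLocFree E) (hEi : Indec E) {r : ℕ}
    (a : (Scheme.Modules.pullback g).obj E ≅ ∐ fun _ : Fin r => L) (f : E ⟶ E) (hf : f ≠ 0) : IsIso f := by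
  classical
  by_contra hni
  haveI : IsLocallyNoetherian X := LocallyOfFiniteType.isLocallyNoetherian (X ↘ Spec (CommRingCat.of k))
  haveI : Module.Finite k (E ⟶ E) := Groth.L14.Quot.finite_hom (Groth.L16.NegPow.isCoh_of_isFinLocFree hE)
    (Groth.L16.NegPow.isCoh_of_isFinLocFree hE)
  haveI : Flat g := MorphismProperty.of_isPullback (P := @Flat) sq.flip (Groth.L03.ShStab.BC.flat_specMap K)
  haveI : Surjective g :=
    MorphismProperty.of_isPullback (P := @Surjective) sq.flip (Groth.L03.ShStab.BC.surjective_specMap K)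
  have hL0 := (indec_of_invertible hk e).1
  let G := Scheme.Modules.pullback g
  let T : ℕ → Submodule K (G.obj E ⟶ G.obj E) := fun j =>
    Submodule.span K ((fun x : End E => G.map (show E ⟶ E from x)) '' ((Ring.jacobson (End E) ^ j : Ideal (End E)) : Set (End E)))
  have hfJ : (show End E from f) ∈ Ring.jacobson (End E) :=
    mem_jacobson k hEi _ fun hu => hni ((isUnit_iff_isIso (show End E from f)).1 hu)
  have hfT : G.map f ∈ T 1 := Submodule.subset_span ⟨f, by rw [SetLike.mem_coe, Submodule.pow_one]; exact hfJ, rfl⟩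
  have hleft : ∀ (q x : G.obj E ⟶ G.obj E), x ∈ T 1 → q ≫ x ∈ T 1 := by
    intro q x hx
    obtain ⟨n, α, c, rfl⟩ := exists_sum_map g sq hE hE q
    rw [Preadditive.sum_comp]
    refine Submodule.sum_mem _ fun i _ => ?_
    rw [Linear.smul_comp]
    refine Submodule.smul_mem _ _ ?_
    induction hx using Submodule.span_induction with
    | mem x hx =>
      obtain ⟨b, hb, rfl⟩ := hx
      rw [SetLike.mem_coe, Submodule.pow_one] at hb
      refine Submodule.subset_span ⟨b * (show End E from α i), ?_, G.map_comp (α i) b⟩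
      rw [SetLike.mem_coe, Submodule.pow_one]
      exact Ideal.mul_mem_right _ _ hb
    | zero => rw [Limits.comp_zero]; exact zero_mem _
    | add y z _ _ hy hz => rw [Preadditive.comp_add]; exact add_mem hy hz
    | smul d y _ hy => rw [Linear.comp_smul]; exact Submodule.smul_mem _ _ hy
  have hmul : ∀ (j : ℕ) (x y : G.obj E ⟶ G.obj E), x ∈ T 1 → y ∈ T j → x ≫ y ∈ T (j + 1) := by
    intro j x y hx hy
    induction hx using Submodule.span_induction with
    | mem x hx =>
      induction hy using Submodule.span_induction with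
      | mem y hy =>
        obtain ⟨c, hc, rfl⟩ := hx
        obtain ⟨b, hb, rfl⟩ := hy
        refine Submodule.subset_span ⟨b * c, ?_, G.map_comp c b⟩
        rw [SetLike.mem_coe, Submodule.pow_one] at hc
        rw [SetLike.mem_coe, Submodule.pow_succ]
        exact Ideal.mul_mem_mul hb hc
      | zero => rw [Limits.comp_zero]; exact zero_mem _
      | add y z _ _ hy hz => rw [Preadditive.comp_add]; exact add_mem hy hz
      | smul c y _ hy => rw [Linear.comp_smul]; exact Submodule.smul_mem _ _ hy
    | zero => rw [Limits.zero_comp]; exact zero_mem _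
    | add x z _ _ hx hz => rw [Preadditive.add_comp]; exact add_mem hx hz
    | smul c x _ hx => rw [Linear.smul_comp]; exact Submodule.smul_mem _ _ hx
  let p : Fin r → ((∐ fun _ : Fin r => L) ⟶ L) := fun j => Sigma.desc fun l => if l = j then 𝟙 L else 0
  have hsum : ∑ j, p j ≫ Sigma.ι (fun _ : Fin r => L) j = 𝟙 _ := Sigma.hom_ext _ _ fun l => by
    rw [Preadditive.comp_sum, Category.comp_id, Finset.sum_eq_single l]
    · simp [p]
    · intro j _ hj
      simp [p, Ne.symm hj]
    · exact fun hl => absurd (Finset.mem_univ l) hl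
  have hp : ∀ j, Sigma.ι (fun _ : Fin r => L) j ≫ p j = 𝟙 L := fun j => by simp [p]
  -- a non-zero entry of the pulled back endomorphism
  obtain ⟨i, j, hij⟩ : ∃ i j, Sigma.ι (fun _ : Fin r => L) i ≫ a.inv ≫ G.map f ≫ a.hom ≫ p j ≠ 0 := by
    by_contra hne
    push Not at hne
    refine hf (eq_zero_of_pullback g f ?_)
    have h0 : a.inv ≫ G.map f ≫ a.hom = 0 := Sigma.hom_ext _ _ fun i => by
      rw [Limits.comp_zero, ← Category.comp_id (Sigma.ι _ i ≫ a.inv ≫ G.map f ≫ a.hom), ← hsum, Preadditive.comp_sum]
      refine Finset.sum_eq_zero fun j _ => ?_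
      simp only [Category.assoc]
      rw [reassoc_of% (hne i j), Limits.zero_comp]
    have h1 := congrArg (fun t => a.hom ≫ t ≫ a.inv) h0
    simpa using h1
  obtain ⟨c, hc⟩ := Groth.L03.VBPn.exists_eq_smul_id hk e
    (Sigma.ι (fun _ : Fin r => L) i ≫ a.inv ≫ G.map f ≫ a.hom ≫ p j)
  have hc0 : c ≠ 0 := fun h => hij (by rw [hc, h, zero_smul])
  let q : G.obj E ⟶ G.obj E := a.hom ≫ p j ≫ Sigma.ι (fun _ : Fin r => L) i ≫ a.inv
  let ε : G.obj E ⟶ G.obj E := c⁻¹ • (q ≫ G.map f)
  have hεT : ε ∈ T 1 := Submodule.smul_mem _ _ (hleft q _ hfT)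
  have hqq : (q ≫ G.map f) ≫ (q ≫ G.map f) = c • (q ≫ G.map f) := by
    simp only [q, Category.assoc]
    rw [reassoc_of% hc]
    simp
  have hεε : ε ≫ ε = ε := by
    simp only [ε]
    rw [Linear.smul_comp, Linear.comp_smul, hqq, smul_smul c⁻¹ c, inv_mul_cancel₀ hc0, one_smul]
  have hall : ∀ n, ε ∈ T (n + 1) := by
    intro n
    induction n with
    | zero => exact hεT
    | succ n ih =>
      have := hmul (n + 1) _ _ hεT ih
      rwa [hεε] at this
  obtain ⟨N, hN⟩ := exists_jacobson_pow k E
  have hbot : Ring.jacobson (End E) ^ (N + 1) = ⊥ := by rw [Submodule.pow_succ, hN, Submodule.bot_mul]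
  have h0 := hall N
  simp only [T, hbot, Submodule.bot_coe, Set.image_singleton] at h0
  rw [show G.map (show E ⟶ E from (0 : End E)) = 0 from G.map_zero E E, Submodule.span_zero_singleton,
    Submodule.mem_bot] at h0
  have h2 := congrArg (fun t => Sigma.ι (fun _ : Fin r => L) j ≫ a.inv ≫ t ≫ a.hom ≫ p j) h0
  simp only [ε, q, Linear.smul_comp, Linear.comp_smul, Category.assoc, Iso.inv_hom_id_assoc, Limits.zero_comp,
    Limits.comp_zero] at h2
  rw [reassoc_of% (hp j), hc, smul_smul, inv_mul_cancel₀ hc0, one_smul] at h2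
  exact hL0 ((IsZero.iff_id_eq_zero L).2 h2)

end Groth.L24.KrullSchmidt
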