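import Groth.Agent.L24.KrullSchmidt.Connected
import Groth.Agent.L29.DCoh.TensorPerfect

/-!
# Tensor products and summands of isotypical bundles
-/

set_option autoImplicit false
set_option linter.style.haveILetI false
set_option backward.isDefEq.respectTransparency false
set_option backward.isDefEq.respectTransparency.types false

universe u

open CategoryTheory CategoryTheory.Limits AlgebraicGeometry
open Groth.L00.Tensor (tensorRightF tensorLeftF tensorComm tensorIso)
open Groth.L21.Weil (IsRetract)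

noncomputable section

namespace Groth.L24.KrullSchmidt

/-- An equivalence preserves indecomposability. -/
theorem indec_map {X : Scheme.{u}} (F : X.Modules ⥤ X.Modules) [F.IsEquivalence] [F.Additive] {M : X.Modules}
    (hM : Indec M) : Indec (F.obj M) := by
  refine ⟨fun h => hM.1 ((IsZero.iff_id_eq_zero M).2 (F.map_injective ((h.eq_of_src _ _)))), fun A B ⟨i⟩ => ?_⟩
  let G := F.inv
  haveI : G.Additive := Functor.additive_of_preserves_binary_products _
  haveI := preservesBinaryBiproducts_of_preservesBiproducts G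
  let j : M ≅ G.obj A ⊞ G.obj B := F.asEquivalence.unitIso.app M ≪≫ G.mapIso i ≪≫ G.mapBiprod A B
  have key : ∀ C : X.Modules, IsZero (G.obj C) → IsZero C := fun C hC =>
    (F.map_isZero hC).of_iso (F.asEquivalence.counitIso.app C).symm
  exact (hM.2 _ _ ⟨j⟩).imp (key A) (key B)

/-- The tensor product with an invertible module of an indecomposable module is indecomposable. -/
theorem indec_tensor {X : Scheme.{u}} {M J J' : X.Modules} (e : CohB1.tensorMod J J' ≅ Coh.structureModule X)
    (hM : Indec M) : Indec (CohB1.tensorMod M J) := by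
  haveI := Groth.L22.PDual.isEquivalence_tensorRightF e
  haveI : (tensorRightF J).Additive := Functor.additive_of_preserves_binary_products _
  exact indec_map (tensorRightF J) hM

variable {X : Scheme.{u}} {Y : Scheme.{u}} (g : Y ⟶ X)

/-- The type of a tensor product. -/
theorem exists_tensor_type_pow {W V : X.Modules} {L M N : Y.Modules} {r d : ℕ}
    (a : (Scheme.Modules.pullback g).obj W ≅ ∐ fun _ : Fin r => L)
    (b : (Scheme.Modules.pullback g).obj V ≅ ∐ fun _ : Fin d => M)
    (t : CohB1.tensorMod L M ≅ N) :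
    Nonempty ((Scheme.Modules.pullback g).obj (CohB1.tensorMod W V) ≅ ∐ fun _ : Fin (r * d) => N) := by
  haveI : PreservesColimitsOfSize.{0, 0} (tensorRightF ((Scheme.Modules.pullback g).obj V)) :=
    preservesColimitsOfSize_shrink.{0, u, 0, u} _
  haveI : PreservesColimitsOfSize.{0, 0} (tensorLeftF L) := preservesColimitsOfSize_shrink.{0, u, 0, u} _
  let e1 : CohB1.tensorMod L ((Scheme.Modules.pullback g).obj V) ≅ ∐ fun _ : Fin d => N :=
    tensorIso (Iso.refl L) b ≪≫ PreservesCoproduct.iso (tensorLeftF L) (fun _ : Fin d => M) ≪≫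
      Limits.Sigma.mapIso fun _ => t
  exact ⟨(Groth.L29.DC.PullTensor.pullTensor g W V).symm ≪≫ tensorIso a (Iso.refl _) ≪≫
    PreservesCoproduct.iso (tensorRightF ((Scheme.Modules.pullback g).obj V)) (fun _ : Fin r => L) ≪≫
    Limits.Sigma.mapIso (fun _ => e1) ≪≫
    sigmaSigmaIso (fun _ : Fin r => Fin d) (fun _ _ => N) ≪≫
    Limits.Sigma.whiskerEquiv ((Equiv.sigmaEquivProd (Fin r) (Fin d)).trans finProdFinEquiv) (fun _ => Iso.refl N)⟩

/-- A bundle of some type has an indecomposable direct summand of that type. -/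
theorem exists_indec_type (k : Type u) [Field k] {X' : Scheme.{u}} [X'.Over (Spec (CommRingCat.of k))]
    [IsProper (X' ↘ Spec (CommRingCat.of k))] (K : Type u) [Field K] {Y' : Scheme.{u}}
    [Y'.Over (Spec (CommRingCat.of K))] [IsProper (Y' ↘ Spec (CommRingCat.of K))] (g' : Y' ⟶ X') {L : Y'.Modules} (hL : Indec L) (hLf : FlatMod.IsFinLocFree L) {W : X'.Modules}
    (hW : FlatMod.IsFinLocFree W) (hW0 : ¬ IsZero W) {r : ℕ}
    (a : (Scheme.Modules.pullback g').obj W ≅ ∐ fun _ : Fin r => L) :
    ∃ (M : X'.Modules) (d : ℕ), FlatMod.IsFinLocFree M ∧ Indec M ∧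
      Nonempty ((Scheme.Modules.pullback g').obj M ≅ ∐ fun _ : Fin d => L) := by
  classical
  haveI : IsLocallyNoetherian X' := LocallyOfFiniteType.isLocallyNoetherian (X' ↘ Spec (CommRingCat.of k))
  haveI : IsLocallyNoetherian Y' := LocallyOfFiniteType.isLocallyNoetherian (Y' ↘ Spec (CommRingCat.of K))
  haveI : Module.Finite k (W ⟶ W) := Groth.L14.Quot.finite_hom (Groth.L16.NegPow.isCoh_of_isFinLocFree hW)
    (Groth.L16.NegPow.isCoh_of_isFinLocFree hW)
  obtain ⟨n, f, hf, ⟨d⟩⟩ := exists_decomp k _ W rfl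
  have hn : 0 < n := Nat.pos_of_ne_zero fun h => hW0 (by
    subst h
    exact ((IsZero.iff_id_eq_zero _).2 (Sigma.hom_ext _ _ fun i => i.elim0)).of_iso d)
  have hret := (isRetract_member f ⟨0, hn⟩).trans (IsRetract.of_iso d.symm)
  have hM := isFinLocFree_retract hW hret
  haveI : Module.Finite K (L ⟶ L) := Groth.L14.Quot.finite_hom (Groth.L16.NegPow.isCoh_of_isFinLocFree hLf)
    (Groth.L16.NegPow.isCoh_of_isFinLocFree hLf)
  have hPM := Groth.L16.NegPow.isCoh_of_isFinLocFree (Groth.L29.LocFree.pullback g' hM)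
  haveI : Module.Finite K ((Scheme.Modules.pullback g').obj (f ⟨0, hn⟩) ⟶ (Scheme.Modules.pullback g').obj (f ⟨0, hn⟩)) :=
    Groth.L14.Quot.finite_hom hPM hPM
  obtain ⟨m, hm⟩ := exists_pow_of_retract K hL (A := (Scheme.Modules.pullback g').obj (f ⟨0, hn⟩)) (r := r) (by
    obtain ⟨j, q, hjq⟩ := hret
    exact IsRetract.trans ⟨(Scheme.Modules.pullback g').map j, (Scheme.Modules.pullback g').map q,
      by rw [← Functor.map_comp, hjq, CategoryTheory.Functor.map_id]⟩ (IsRetract.of_iso a))
  exact ⟨_, m, hM, hf _, hm⟩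

end Groth.L24.KrullSchmidt
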