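import Groth.Agent.L24.KrullSchmidt.Main

/-!
# Cancellation
-/

set_option autoImplicit false
set_option linter.style.haveILetI false
set_option backward.isDefEq.respectTransparency false

universe u v w

open CategoryTheory CategoryTheory.Limits
open Groth.L21.Weil (IsRetract)

noncomputable section

namespace Groth.L24.KrullSchmidt

variable {C : Type v} [Category.{w} C] [Abelian C]

/-- The sum of two finite sums. -/
theorem nonempty_append_iso {n₁ n₂ : ℕ} (f₁ : Fin n₁ → C) (f₂ : Fin n₂ → C) :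
    Nonempty ((∐ f₁) ⊞ (∐ f₂) ≅ ∐ Fin.append f₁ f₂) :=
  ⟨{ hom := biprod.desc (Sigma.desc fun i => eqToHom (Fin.append_left f₁ f₂ i).symm ≫ Sigma.ι _ (Fin.castAdd n₂ i))
      (Sigma.desc fun i => eqToHom (Fin.append_right f₁ f₂ i).symm ≫ Sigma.ι _ (Fin.natAdd n₁ i))
     inv := Sigma.desc fun i => Fin.addCases (motive := fun i => Fin.append f₁ f₂ i ⟶ (∐ f₁) ⊞ (∐ f₂))
      (fun i => eqToHom (Fin.append_left f₁ f₂ i) ≫ Sigma.ι f₁ i ≫ biprod.inl)
      (fun i => eqToHom (Fin.append_right f₁ f₂ i) ≫ Sigma.ι f₂ i ≫ biprod.inr) i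
     hom_inv_id := by
      apply biprod.hom_ext' <;> refine Sigma.hom_ext _ _ fun i => ?_ <;> simp
     inv_hom_id := by
      refine Sigma.hom_ext _ _ fun i => ?_
      refine Fin.addCases (fun i => ?_) (fun i => ?_) i <;> simp }⟩

theorem cnt_append {n₁ n₂ : ℕ} (f₁ : Fin n₁ → C) (f₂ : Fin n₂ → C) (Z : C) :
    cnt (Fin.append f₁ f₂) Z = cnt f₁ Z + cnt f₂ Z := by
  unfold cnt
  rw [← Nat.card_sum]
  refine Nat.card_congr (((finSumFinEquiv (m := n₁) (n := n₂)).subtypeEquiv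
    (p := fun x => Nonempty (Sum.elim f₁ f₂ x ≅ Z)) fun x => ?_).symm.trans Equiv.subtypeSum)
  rcases x with a | b
  · simp
  · simp

theorem cnt_congr_equiv {ι κ : Type} [Finite ι] [Finite κ] {f : ι → C} {g : κ → C} (e : ι ≃ κ)
    (h : ∀ i, Nonempty (f i ≅ g (e i))) (Z : C) : cnt f Z = cnt g Z :=
  Nat.card_congr (e.subtypeEquiv fun i => ⟨fun ⟨a⟩ => ⟨(h i).some.symm ≪≫ a⟩, fun ⟨a⟩ => ⟨(h i).some ≪≫ a⟩⟩)

/-- The members of the two halves of a sum. -/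
theorem indec_append {n₁ n₂ : ℕ} {f₁ : Fin n₁ → C} {f₂ : Fin n₂ → C} (h₁ : ∀ i, Indec (f₁ i))
    (h₂ : ∀ i, Indec (f₂ i)) (i : Fin (n₁ + n₂)) : Indec (Fin.append f₁ f₂ i) :=
  Fin.addCases (fun i => by rw [Fin.append_left]; exact h₁ i) (fun i => by rw [Fin.append_right]; exact h₂ i) i

variable (k : Type u) [Field k] [Linear k C]

include k in
/-- Cancellation of a summand. -/
theorem nonempty_iso_of_biprod {A B B' : C} [Module.Finite k (A ⊞ B ⟶ A ⊞ B)] [Module.Finite k (A ⟶ A)]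
    [Module.Finite k (B ⟶ B)] [Module.Finite k (B' ⟶ B')] (e : A ⊞ B ≅ A ⊞ B') : Nonempty (B ≅ B') := by
  obtain ⟨a, fa, ha, ⟨ea⟩⟩ := exists_decomp k _ A rfl
  obtain ⟨b, fb, hb, ⟨eb⟩⟩ := exists_decomp k _ B rfl
  obtain ⟨b', fb', hb', ⟨eb'⟩⟩ := exists_decomp k _ B' rfl
  obtain ⟨i₁⟩ := nonempty_append_iso fa fb
  obtain ⟨i₂⟩ := nonempty_append_iso fa fb'
  obtain ⟨σ, hσ⟩ := unique k (Fin.append fa fb) (Fin.append fa fb') (indec_append ha hb) (indec_append ha hb')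
    (biprod.mapIso ea eb ≪≫ i₁) (e ≪≫ biprod.mapIso ea eb' ≪≫ i₂)
  have hcnt : ∀ Z, cnt fb Z = cnt fb' Z := fun Z => by
    have := cnt_congr_equiv σ hσ Z
    rw [cnt_append, cnt_append] at this
    omega
  obtain ⟨τ, hτ⟩ := exists_equiv_of_cnt fb fb' (fun i => hcnt _) (fun i => hcnt _)
  exact ⟨eb ≪≫ Sigma.whiskerEquiv τ (fun i => (hτ i).some.symm) ≪≫ eb'.symm⟩

end Groth.L24.KrullSchmidt
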