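import Groth.Agent.L24.KrullSchmidt.Isotypical
import Groth.Agent.L03.VBPn.CotEnd
import Groth.Agent.L22.PDual.TwistExt
import Groth.Agent.L29.LocFree
import Groth.Agent.L29.DCoh.PullTensor
import Groth.Agent.L00.TensorColim

/-!
# Multiplicities of isotypical bundles
-/

set_option autoImplicit false
set_option linter.style.haveILetI false
set_option backward.isDefEq.respectTransparency false
set_option backward.isDefEq.respectTransparency.types false

universe u

open CategoryTheory CategoryTheory.Limits AlgebraicGeometry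
open Groth.L00.Tensor (tensorMap tensorLeftF tensorRightF tensorFlipIso tensorComm)
open Groth.L16.HomSh

noncomputable section

namespace Groth.L24.KrullSchmidt

section Dual

variable {X : Scheme.{u}}

/-- Precomposition on the sheaf of homomorphisms. -/
def preMap {M M' : X.Modules} (f : M ⟶ M') (N : X.Modules) : homMod M' N ⟶ homMod M N :=
  curryHom (tensorMap f (𝟙 (homMod M' N)) ≫ evalMod M' N)

theorem ev_preMap {M M' : X.Modules} (f : M ⟶ M') (N : X.Modules) (U : X.Opens) (s : Γ(homMod M' N, U))
    {W : X.Opens} (h : W ≤ U) (x : Γ(M, W)) :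
    ev (secEquiv U ((preMap f N).app U s)) h x = ev (secEquiv U s) h (f.app W x) := by
  rw [preMap, ev_curryHom]
  show (evalMod M' N).app W ((tensorMap f (𝟙 (homMod M' N))).app W (Groth.L18.GenLoc.tens M _ W x _)) = _
  rw [tensorMap_tens, evalMod_tens]
  exact secEquiv_rs h s le_rfl (f.app W x)

theorem preMap_id (M N : X.Modules) : preMap (𝟙 M) N = 𝟙 (homMod M N) :=
  hom_ext_ev fun U s W h x => ev_preMap (𝟙 M) N U s h x

theorem preMap_comp {M M' M'' : X.Modules} (f : M ⟶ M') (g : M' ⟶ M'') (N : X.Modules) :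
    preMap (f ≫ g) N = preMap g N ≫ preMap f N :=
  hom_ext_ev fun U s W h x => by
    show _ = ev (secEquiv U ((preMap f N).app U ((preMap g N).app U s))) h x
    rw [ev_preMap, ev_preMap, ev_preMap]
    rfl

theorem preMap_add {M M' : X.Modules} (f g : M ⟶ M') (N : X.Modules) :
    preMap (f + g) N = preMap f N + preMap g N :=
  hom_ext_ev fun U s W h x => by
    show _ = ev (secEquiv U ((preMap f N).app U s)) h x + ev (secEquiv U ((preMap g N).app U s)) h x
    rw [ev_preMap, ev_preMap, ev_preMap]
    exact map_add (ev (secEquiv U s) h) _ _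

theorem preMap_zero (M M' : X.Modules) (N : X.Modules) : preMap (0 : M ⟶ M') N = 0 := by
  have h := preMap_add (0 : M ⟶ M') 0 N
  rw [add_zero] at h
  exact left_eq_add.1 h

theorem preMap_sum {M M' : X.Modules} {ι : Type} (s : Finset ι) (f : ι → (M ⟶ M')) (N : X.Modules) :
    preMap (∑ i ∈ s, f i) N = ∑ i ∈ s, preMap (f i) N := by
  classical
  induction s using Finset.induction_on with
  | empty => simp [preMap_zero]
  | insert i s hi ih => rw [Finset.sum_insert hi, Finset.sum_insert hi, preMap_add, ih]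

/-- An isomorphism in the first variable. -/
def preIso {M M' : X.Modules} (e : M ≅ M') (N : X.Modules) : homMod M' N ≅ homMod M N where
  hom := preMap e.hom N
  inv := preMap e.inv N
  hom_inv_id := by rw [← preMap_comp, e.inv_hom_id, preMap_id]
  inv_hom_id := by rw [← preMap_comp, e.hom_inv_id, preMap_id]

/-- Homomorphisms out of a power. -/
theorem nonempty_homMod_pow (L N : X.Modules) (r : ℕ) :
    Nonempty (homMod (∐ fun _ : Fin r => L) N ≅ ∐ fun _ : Fin r => homMod L N) := by
  classical
  let p : Fin r → ((∐ fun _ : Fin r => L) ⟶ L) := fun j => Sigma.desc fun l => if l = j then 𝟙 L else 0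
  have hsum : ∑ j, p j ≫ Sigma.ι (fun _ : Fin r => L) j = 𝟙 _ := Sigma.hom_ext _ _ fun l => by
    rw [Preadditive.comp_sum, Category.comp_id, Finset.sum_eq_single l]
    · simp [p]
    · intro j _ hj
      simp [p, Ne.symm hj]
    · exact fun hl => absurd (Finset.mem_univ l) hl
  have hp : ∀ i j : Fin r, Sigma.ι (fun _ : Fin r => L) i ≫ p j = if i = j then 𝟙 L else 0 := fun i j => by simp [p]
  refine ⟨⟨∑ j, preMap (Sigma.ι (fun _ : Fin r => L) j) N ≫ Sigma.ι (fun _ : Fin r => homMod L N) j,
    Sigma.desc fun j => preMap (p j) N, ?_, ?_⟩⟩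
  · rw [Preadditive.sum_comp]
    simp only [Category.assoc, Sigma.ι_desc, ← preMap_comp]
    rw [← preMap_sum, hsum, preMap_id]
  · refine Sigma.hom_ext _ _ fun i => ?_
    rw [Sigma.ι_desc_assoc, Preadditive.comp_sum, Category.comp_id, Finset.sum_eq_single i]
    · rw [← Category.assoc, ← preMap_comp, hp, if_pos rfl, preMap_id, Category.id_comp]
    · intro j _ hj
      rw [← Category.assoc, ← preMap_comp, hp, if_neg hj, preMap_zero, Limits.zero_comp]
    · exact fun hl => absurd (Finset.mem_univ i) hl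

/-- The dual of an invertible module is its inverse. -/
theorem nonempty_homMod_invertible {L L' : X.Modules} (e : CohB1.tensorMod L L' ≅ Coh.structureModule X) :
    Nonempty (homMod L (Coh.structureModule X) ≅ L') := by
  haveI : (tensorRightF L).IsEquivalence := Groth.L22.PDual.isEquivalence_tensorRightF e
  haveI : (tensorLeftF L).IsEquivalence := Functor.isEquivalence_of_iso (tensorFlipIso L)
  let i : homModF L ≅ (tensorLeftF L).asEquivalence.inverse :=
    (tensorHomAdj L).rightAdjointUniq (tensorLeftF L).asEquivalence.toAdjunction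
  exact ⟨i.app (Coh.structureModule X) ≪≫ (tensorLeftF L).asEquivalence.inverse.mapIso e.symm ≪≫
    ((tensorLeftF L).asEquivalence.unitIso.app L').symm⟩

/-- The dual of a bundle of a type is a bundle of the inverse type. -/
theorem exists_dual_type {Y : Scheme.{u}} (g : Y ⟶ X) {W : X.Modules} (hW : FlatMod.IsFinLocFree W)
    {L L' : Y.Modules} (e : CohB1.tensorMod L L' ≅ Coh.structureModule Y) {r : ℕ}
    (a : (Scheme.Modules.pullback g).obj W ≅ ∐ fun _ : Fin r => L) :
    ∃ D : X.Modules, FlatMod.IsFinLocFree D ∧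
      Nonempty ((Scheme.Modules.pullback g).obj D ≅ ∐ fun _ : Fin r => L') := by
  have hO : FlatMod.IsFinLocFree (Coh.structureModule X) :=
    Groth.L16.Existence.isFinLocFree_of_isInvertible (Groth.L18.Ample.isInvertible_structureModule X)
  haveI := isIso_pullHomMap g hW hO
  obtain ⟨b⟩ := nonempty_homMod_pow L (Coh.structureModule Y) r
  obtain ⟨c⟩ := nonempty_homMod_invertible e
  exact ⟨homMod W (Coh.structureModule X), isFinLocFree_homMod hW hO,
    ⟨asIso (pullHomMap g W (Coh.structureModule X)) ≪≫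
      (homModF _).mapIso (Groth.L29.LocFree.pullbackUnitIso g) ≪≫ preIso a.symm _ ≪≫ b ≪≫
      Sigma.mapIso fun _ => c⟩⟩

/-- Twisting a bundle of a type by a line bundle. -/
theorem nonempty_tensor_type {Y : Scheme.{u}} (g : Y ⟶ X) (W J : X.Modules) {L M : Y.Modules} {r : ℕ}
    (a : (Scheme.Modules.pullback g).obj W ≅ ∐ fun _ : Fin r => L)
    (t : CohB1.tensorMod ((Scheme.Modules.pullback g).obj J) L ≅ M) :
    Nonempty ((Scheme.Modules.pullback g).obj (CohB1.tensorMod J W) ≅ ∐ fun _ : Fin r => M) := by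
  haveI : PreservesColimitsOfSize.{0, 0} (tensorLeftF ((Scheme.Modules.pullback g).obj J)) :=
    preservesColimitsOfSize_shrink.{0, u, 0, u} _
  exact ⟨(Groth.L29.DC.PullTensor.pullTensor g J W).symm ≪≫ Groth.L00.Tensor.tensorIso (Iso.refl _) a ≪≫
    PreservesCoproduct.iso (tensorLeftF ((Scheme.Modules.pullback g).obj J)) (fun _ : Fin r => L) ≪≫
    Sigma.mapIso fun _ => t⟩

end Dual

section Types

variable {k : Type u} [Field k] {X : Scheme.{u}} [X.Over (Spec (CommRingCat.of k))]
  [IsProper (X ↘ Spec (CommRingCat.of k))]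
  {K : Type u} [Field K] [Algebra k K] {Y : Scheme.{u}} [Y.Over (Spec (CommRingCat.of K))] (g : Y ⟶ X)
  (sq : IsPullback g (Y ↘ Spec (CommRingCat.of K)) (X ↘ Spec (CommRingCat.of k))
    (Spec.map (CommRingCat.ofHom (algebraMap k K))))

omit [IsProper (X ↘ Spec (CommRingCat.of k))] in
/-- An invertible module with scalar endomorphisms is indecomposable. -/
theorem indec_of_invertible (hk : Function.Bijective (Coh.toGlobal (Y ↘ Spec (CommRingCat.of K))))
    {L L' : Y.Modules} (e : CohB1.tensorMod L L' ≅ Coh.structureModule Y) : Indec L := by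
  haveI : (tensorRightF L).IsEquivalence := Groth.L22.PDual.isEquivalence_tensorRightF e
  haveI : (tensorLeftF L).IsEquivalence := Functor.isEquivalence_of_iso (tensorFlipIso L)
  have hO : ¬ IsZero (Coh.structureModule Y) := fun h => by
    have h1 : (Groth.L21.RR.oneSec Y) = 0 := by
      have := congr($(congrArg (fun q => Scheme.Modules.Hom.app q ⊤) ((IsZero.iff_id_eq_zero _).1 h)) (Groth.L21.RR.oneSec Y))
      simpa using this
    have h2 : Coh.toGlobal (Y ↘ Spec (CommRingCat.of K)) 1 = Coh.toGlobal (Y ↘ Spec (CommRingCat.of K)) 0 := by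
      rw [map_one, map_zero]
      exact h1
    exact one_ne_zero (hk.1 h2)
  have hL : ¬ IsZero L := fun h => by
    refine hO (IsZero.of_iso ?_ e.symm)
    exact ((tensorRightF L').map_isZero h)
  refine ⟨hL, fun A B ⟨i⟩ => ?_⟩
  obtain ⟨c, hc⟩ := Groth.L03.VBPn.exists_eq_smul_id hk e (i.hom ≫ biprod.fst ≫ biprod.inl ≫ i.inv)
  by_cases hc0 : c = 0
  · refine Or.inl ((IsZero.iff_id_eq_zero A).2 ?_)
    rw [hc0, zero_smul] at hc
    simpa using congrArg (fun f => biprod.inl ≫ i.inv ≫ f ≫ i.hom ≫ biprod.fst) hc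
  · refine Or.inr ((IsZero.iff_id_eq_zero B).2 ?_)
    have h0 := congrArg (fun f => biprod.inr ≫ i.inv ≫ f ≫ i.hom ≫ biprod.snd) hc
    simp only [Category.assoc, Linear.comp_smul, Linear.smul_comp, Iso.inv_hom_id_assoc, Category.id_comp,
      biprod.inr_fst_assoc, Limits.zero_comp, biprod.inr_snd] at h0
    exact (smul_eq_zero.1 h0.symm).resolve_left hc0

include sq in
/-- The multiplicity of the indecomposable bundle of a type divides that of any bundle of this type. -/
theorem dvd_of_type (hk : Function.Bijective (Coh.toGlobal (Y ↘ Spec (CommRingCat.of K))))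
    {L L' : Y.Modules} (e : CohB1.tensorMod L L' ≅ Coh.structureModule Y) (hL : PicF.IsInvertible L)
    {W D : X.Modules} (hW : FlatMod.IsFinLocFree W) (hWi : Indec W) (hD : FlatMod.IsFinLocFree D) {r d : ℕ}
    (a : (Scheme.Modules.pullback g).obj W ≅ ∐ fun _ : Fin r => L)
    (b : (Scheme.Modules.pullback g).obj D ≅ ∐ fun _ : Fin d => L) : r ∣ d := by
  classical
  haveI : IsProper (Y ↘ Spec (CommRingCat.of K)) := MorphismProperty.of_isPullback (P := @IsProper) sq inferInstance
  haveI : IsLocallyNoetherian X := LocallyOfFiniteType.isLocallyNoetherian (X ↘ Spec (CommRingCat.of k))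
  have hLi := indec_of_invertible hk e
  have hfinK : ∀ {A : Y.Modules}, FlatMod.IsFinLocFree A → Module.Finite K (A ⟶ A) :=
    fun hA => Groth.L14.Quot.finite_hom (Groth.L16.NegPow.isCoh_of_isFinLocFree hA)
      (Groth.L16.NegPow.isCoh_of_isFinLocFree hA)
  haveI := hfinK (Groth.L16.Existence.isFinLocFree_of_isInvertible hL)
  haveI : Module.Finite k (D ⟶ D) := Groth.L14.Quot.finite_hom (Groth.L16.NegPow.isCoh_of_isFinLocFree hD)
    (Groth.L16.NegPow.isCoh_of_isFinLocFree hD)
  haveI : PreservesColimitsOfSize.{0, 0} (Scheme.Modules.pullback g) :=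
    (Scheme.Modules.pullbackPushforwardAdjunction g).leftAdjoint_preservesColimits
  obtain ⟨n, f, hf, ⟨c⟩⟩ := exists_decomp k _ D rfl
  have hiso : ∀ i, Nonempty (f i ≅ W) := fun i => by
    have hret := (isRetract_member f i).trans (Groth.L21.Weil.IsRetract.of_iso c.symm)
    have hlf := isFinLocFree_retract hD hret
    haveI := hfinK (Groth.L29.LocFree.pullback g hlf)
    obtain ⟨j, q, hjq⟩ := hret
    obtain ⟨m, ⟨am⟩⟩ := exists_pow_of_retract K hLi (A := (Scheme.Modules.pullback g).obj (f i)) (r := d)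
      (Groth.L21.Weil.IsRetract.trans ⟨(Scheme.Modules.pullback g).map j, (Scheme.Modules.pullback g).map q,
        by rw [← Functor.map_comp, hjq, CategoryTheory.Functor.map_id]⟩ (Groth.L21.Weil.IsRetract.of_iso b))
    exact nonempty_iso_of_isotypical g sq hlf hW (hf i) hWi m r am a
  let big : (Scheme.Modules.pullback g).obj D ≅ ∐ fun _ : (_ : Fin n) × Fin r => L :=
    (Scheme.Modules.pullback g).mapIso (c ≪≫ Sigma.mapIso fun i => (hiso i).some) ≪≫
      PreservesCoproduct.iso (Scheme.Modules.pullback g) (fun _ : Fin n => W) ≪≫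
      Sigma.mapIso (fun _ => a) ≪≫ sigmaSigmaIso (fun _ : Fin n => Fin r) (fun _ _ => L)
  haveI := hfinK (Groth.L29.LocFree.pullback g hD)
  obtain ⟨σ, -⟩ := unique K (fun _ : (_ : Fin n) × Fin r => L) (fun _ : Fin d => L) (fun _ => hLi) (fun _ => hLi) big b
  exact ⟨n, by simpa [mul_comm] using (Fintype.card_congr σ).symm⟩

end Types

end Groth.L24.KrullSchmidt
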