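import Groth.Agent.L24.KrullSchmidt.IsoDescent
import Groth.Agent.L24.KrullSchmidt.Types

/-!
# Invertible modules on connected schemes are indecomposable; absolutely split bundles
-/

set_option autoImplicit false
set_option linter.style.haveILetI false
set_option backward.isDefEq.respectTransparency false
set_option backward.isDefEq.respectTransparency.types false

universe u

open CategoryTheory CategoryTheory.Limits AlgebraicGeometry
open Groth.L00.Tensor (tensorRightF tensorComm)
open Groth.L21.Weil (IsRetract)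

noncomputable section

namespace Groth.L24.KrullSchmidt

/-- On a connected scheme an idempotent global function is trivial. -/
theorem idem_global {X : Scheme.{u}} [ConnectedSpace X] (s : Γ(X, ⊤)) (hs : s * s = s) : s = 0 ∨ s = 1 := by
  have hmul : s * (1 - s) = 0 := by rw [mul_sub, mul_one, hs, sub_self]
  have hdis : X.basicOpen s ⊓ X.basicOpen (1 - s) = ⊥ := by
    rw [← Scheme.basicOpen_mul, hmul, Scheme.basicOpen_zero]
  have hcov : ∀ x : X, x ∈ X.basicOpen s ∨ x ∈ X.basicOpen (1 - s) := fun x => by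
    rw [Scheme.mem_basicOpen_top, Scheme.mem_basicOpen_top, map_sub, map_one]
    exact IsLocalRing.isUnit_or_isUnit_one_sub_self _
  have hcl : IsClopen (X.basicOpen s : Set X) := by
    refine ⟨⟨?_⟩, (X.basicOpen s).isOpen⟩
    have h : (X.basicOpen s : Set X)ᶜ = (X.basicOpen (1 - s) : Set X) := by
      ext x
      refine ⟨fun hx => (hcov x).resolve_left hx, fun hx hx' => ?_⟩
      have h2 : x ∈ X.basicOpen s ⊓ X.basicOpen (1 - s) := ⟨hx', hx⟩
      rw [hdis] at h2
      exact h2
    rw [h]
    exact (X.basicOpen (1 - s)).isOpen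
  rcases isClopen_iff.1 hcl with h | h
  · have h2 : X.basicOpen (1 - s) = ⊤ := eq_top_iff.2 fun x _ =>
      (hcov x).resolve_left fun hx => (Set.ext_iff.1 h x).1 hx
    refine Or.inl ?_
    have hu : IsUnit (1 - s) := X.toRingedSpace.isUnit_of_isUnit_germ _ _ fun x hx =>
      (X.mem_basicOpen (1 - s) x hx).1 (by rw [h2]; trivial)
    exact hu.mul_left_eq_zero.1 hmul
  · refine Or.inr (sub_eq_zero.1 ?_).symm
    have hu : IsUnit s := X.toRingedSpace.isUnit_of_isUnit_germ _ _ fun x hx =>
      (X.mem_basicOpen s x hx).1 ((Set.ext_iff.1 h x).2 trivial)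
    exact hu.mul_right_eq_zero.1 hmul

/-- The structure module of a connected scheme has no non-trivial idempotents. -/
theorem idem_structureModule {X : Scheme.{u}} [ConnectedSpace X]
    (ε : Coh.structureModule X ⟶ Coh.structureModule X) (hε : ε ≫ ε = ε) : ε = 0 ∨ ε = 𝟙 _ := by
  let one : Γ(Coh.structureModule X, ⊤) := Groth.L21.RR.oneSec X
  let s : Γ(X, ⊤) := ε.app ⊤ one
  have happ : ∀ t : Γ(X, ⊤), ε.app ⊤ (t • one) = t • ε.app ⊤ one := fun t => by
    rw [Scheme.Modules.Hom.app_smul]
  have hs : s * s = s := by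
    have h1 : ε.app ⊤ (ε.app ⊤ one) = ε.app ⊤ one := congr($(congrArg (fun q => Scheme.Modules.Hom.app q ⊤) hε) one)
    have h2 : ε.app ⊤ one = s • one := (mul_one s).symm
    rw [h2, happ, h2] at h1
    calc s * s = s • (s • one : Γ(Coh.structureModule X, ⊤)) := by
          show s * s = s * (s * 1)
          rw [mul_one]
      _ = s • one := h1
      _ = s := mul_one s
  rcases idem_global s hs with h | h
  · refine Or.inl (Groth.L21.RR.hom_ext_one ?_)
    show s = _
    rw [h]
    rfl
  · refine Or.inr (Groth.L21.RR.hom_ext_one ?_)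
    show s = _
    rw [h]
    rfl

/-- On a connected scheme invertible modules are indecomposable. -/
theorem indec_of_connected {X : Scheme.{u}} [ConnectedSpace X] {L L' : X.Modules}
    (e : CohB1.tensorMod L L' ≅ Coh.structureModule X) : Indec L := by
  haveI := Groth.L22.PDual.isEquivalence_tensorRightF (tensorComm L' L ≪≫ e)
  have hO : ¬ IsZero (Coh.structureModule X) := fun h => by
    obtain ⟨x⟩ := (inferInstance : Nonempty X)
    have h1 : (1 : Γ(X, ⊤)) = 0 := by
      have := congr($(congrArg (fun q => Scheme.Modules.Hom.app q ⊤) ((IsZero.iff_id_eq_zero _).1 h)) (Groth.L21.RR.oneSec X))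
      exact this
    have hu : x ∈ X.basicOpen (1 : Γ(X, ⊤)) := (Scheme.mem_basicOpen_top X _ x).2 (by rw [map_one]; exact isUnit_one)
    rw [h1, Scheme.basicOpen_zero] at hu
    exact hu
  have hL : ¬ IsZero L := fun h => hO (((tensorRightF L').map_isZero h).of_iso e.symm)
  refine ⟨hL, fun A B ⟨i⟩ => ?_⟩
  let g : L ⟶ L := i.hom ≫ biprod.fst ≫ biprod.inl ≫ i.inv
  have hg : g ≫ g = g := by simp [g]
  let T := tensorRightF L'
  let ε : Coh.structureModule X ⟶ Coh.structureModule X := e.inv ≫ T.map g ≫ e.hom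
  have hε : ε ≫ ε = ε := by
    simp only [ε, Category.assoc, Iso.hom_inv_id_assoc]
    rw [← Functor.map_comp_assoc, hg]
  have hTg : T.map g = e.hom ≫ ε ≫ e.inv := by simp [ε]
  rcases idem_structureModule ε hε with h | h
  · refine Or.inl ((IsZero.iff_id_eq_zero A).2 ?_)
    have hg0 : g = 0 := T.map_injective (by rw [hTg, h, Limits.zero_comp, Limits.comp_zero, Functor.map_zero])
    simpa [g] using congrArg (fun f => biprod.inl ≫ i.inv ≫ f ≫ i.hom ≫ biprod.fst) hg0
  · refine Or.inr ((IsZero.iff_id_eq_zero B).2 ?_)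
    have hg1 : g = 𝟙 L := T.map_injective (by rw [hTg, h, Category.id_comp, Iso.hom_inv_id, CategoryTheory.Functor.map_id]; rfl)
    have h0 := congrArg (fun f => biprod.inr ≫ i.inv ≫ f ≫ i.hom ≫ biprod.snd) hg1
    simpa [g] using h0.symm

variable {k : Type u} [Field k] {X : Scheme.{u}} [X.Over (Spec (CommRingCat.of k))]
  [IsProper (X ↘ Spec (CommRingCat.of k))]
  {K : Type u} [Field K] [Algebra k K] {Y : Scheme.{u}} [Y.Over (Spec (CommRingCat.of K))] (g : Y ⟶ X)
  (sq : IsPullback g (Y ↘ Spec (CommRingCat.of K)) (X ↘ Spec (CommRingCat.of k))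
    (Spec.map (CommRingCat.ofHom (algebraMap k K))))

include sq in
/-- An indecomposable bundle splitting into indecomposable summands, one of which is the type of an indecomposable
isotypical bundle, is that bundle. -/
theorem nonempty_iso_of_split {E M : X.Modules} (hE : FlatMod.IsFinLocFree E) (hM : FlatMod.IsFinLocFree M)
    (hEi : Indec E) (hMi : Indec M) {n d : ℕ} {f : Fin n → Y.Modules} (i : Fin n)
    (a : (Scheme.Modules.pullback g).obj E ≅ ∐ f)
    (b : (Scheme.Modules.pullback g).obj M ≅ ∐ fun _ : Fin d => f i) : Nonempty (E ≅ M) := by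
  classical
  haveI : IsLocallyNoetherian X := LocallyOfFiniteType.isLocallyNoetherian (X ↘ Spec (CommRingCat.of k))
  haveI := (Scheme.Modules.pullbackPushforwardAdjunction g).leftAdjoint_preservesColimits
  haveI : PreservesColimitsOfSize.{0, 0} (Scheme.Modules.pullback g) :=
    preservesColimitsOfSize_shrink.{0, u, 0, u} _
  let P : X.Modules := ∐ fun _ : Fin d => E
  have hE' := Groth.L16.NegPow.isCoh_of_isFinLocFree hE
  have hM' := Groth.L16.NegPow.isCoh_of_isFinLocFree hM
  have hP : FlatMod.IsFinLocFree P := Groth.L29.DC.isFinLocFree_coprod_fin d _ fun _ => hE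
  have hret : IsRetract M P := by
    refine isRetract_of_pullback g sq hM' (Groth.L16.NegPow.isCoh_of_isFinLocFree hP) hMi ?_
    refine (IsRetract.of_iso b).trans (IsRetract.trans ?_
      (IsRetract.of_iso (PreservesCoproduct.iso (Scheme.Modules.pullback g) (fun _ : Fin d => E)).symm))
    obtain ⟨j, q, hjq⟩ := (isRetract_member f i).trans (IsRetract.of_iso a.symm)
    exact ⟨Limits.Sigma.map fun _ => j, Limits.Sigma.map fun _ => q, Sigma.hom_ext _ _ fun l => by simp [reassoc_of% hjq]⟩
  haveI : Module.Finite k (E ⟶ E) := Groth.L14.Quot.finite_hom hE' hE'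
  haveI : Module.Finite k (M ⟶ M) := Groth.L14.Quot.finite_hom hM' hM'
  obtain ⟨m, ⟨c⟩⟩ := exists_pow_of_retract k hEi (A := M) hret
  have hm : 0 < m := Nat.pos_of_ne_zero fun h => hMi.1 (by
    subst h
    exact ((IsZero.iff_id_eq_zero _).2 (Sigma.hom_ext _ _ fun i => i.elim0)).of_iso c)
  obtain ⟨j, q, hjq⟩ := (isRetract_member (fun _ : Fin m => E) ⟨0, hm⟩).trans (IsRetract.of_iso c.symm)
  have hidem : (q ≫ j) ≫ q ≫ j = q ≫ j := by rw [Category.assoc, reassoc_of% hjq]
  rcases idem_eq_zero_or_one hMi (q ≫ j) hidem with h | h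
  · refine absurd ((IsZero.iff_id_eq_zero E).2 ?_) hEi.1
    calc 𝟙 E = j ≫ (q ≫ j) ≫ q := by rw [Category.assoc, hjq, Category.comp_id, hjq]
      _ = 0 := by rw [h, Limits.zero_comp, Limits.comp_zero]
  · exact ⟨{ hom := j, inv := q, hom_inv_id := hjq, inv_hom_id := h }⟩

omit [IsProper (X ↘ Spec (CommRingCat.of k))] in
/-- Isotypical bundles of non-zero rank have a well defined type. -/
theorem nonempty_iso_type [IsProper (Y ↘ Spec (CommRingCat.of K))] {L L' : Y.Modules} (hL : Indec L)
    (hL' : Indec L') (hLc : FlatMod.IsFinLocFree L) (hLc' : FlatMod.IsFinLocFree L') {d d' : ℕ} (hd : 0 < d)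
    (a : (∐ fun _ : Fin d => L) ≅ ∐ fun _ : Fin d' => L') : Nonempty (L ≅ L') := by
  haveI : Module.Finite K (L ⟶ L) := Groth.L14.Quot.finite_hom (Groth.L16.NegPow.isCoh_of_isFinLocFree hLc)
    (Groth.L16.NegPow.isCoh_of_isFinLocFree hLc)
  haveI : Module.Finite K (L' ⟶ L') := Groth.L14.Quot.finite_hom (Groth.L16.NegPow.isCoh_of_isFinLocFree hLc')
    (Groth.L16.NegPow.isCoh_of_isFinLocFree hLc')
  obtain ⟨m, ⟨c⟩⟩ := exists_pow_of_retract K hL' (A := L)
    ((isRetract_member (fun _ : Fin d => L) ⟨0, hd⟩).trans (IsRetract.of_iso a))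
  have hm : 0 < m := Nat.pos_of_ne_zero fun h => hL.1 (by
    subst h
    exact ((IsZero.iff_id_eq_zero _).2 (Sigma.hom_ext _ _ fun i => i.elim0)).of_iso c)
  obtain ⟨j, q, hjq⟩ := (isRetract_member (fun _ : Fin m => L') ⟨0, hm⟩).trans (IsRetract.of_iso c.symm)
  have hidem : (q ≫ j) ≫ q ≫ j = q ≫ j := by rw [Category.assoc, reassoc_of% hjq]
  rcases idem_eq_zero_or_one hL (q ≫ j) hidem with h | h
  · refine absurd ((IsZero.iff_id_eq_zero L').2 ?_) hL'.1
    calc 𝟙 L' = j ≫ (q ≫ j) ≫ q := by rw [Category.assoc, hjq, Category.comp_id, hjq]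
      _ = 0 := by rw [h, Limits.zero_comp, Limits.comp_zero]
  · exact ⟨({ hom := j, inv := q, hom_inv_id := hjq, inv_hom_id := h } : L' ≅ L).symm⟩

end Groth.L24.KrullSchmidt
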