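import Groth.Agent.L24.KrullSchmidt.Main
import Groth.Agent.L21.RR.PicFieldExt
import Groth.Agent.L16.HomSh.FreeFrames
import Groth.Agent.L03.ShStab.BC
import Groth.Agent.L04.FinLocFreeHom
import Groth.Agent.L14.Quot.ExtFin
import Groth.Agent.L16.NegPow.Gen
import Groth.Prelude.Def_KLin
import Mathlib.RingTheory.Artinian.Module
import Mathlib.RingTheory.SimpleModule.Basic

/-!
# Indecomposable bundles with isotypical pullback of the same type are isomorphic
-/

set_option autoImplicit false
set_option linter.style.haveILetI false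
set_option backward.isDefEq.respectTransparency false
set_option backward.isDefEq.respectTransparency.types false

universe u v w

open CategoryTheory CategoryTheory.Limits AlgebraicGeometry TopologicalSpace
open Groth.L16.HomSh (homMod globalEquiv pullHomMap pullHomMap_globalEquiv isIso_pullHomMap isFinLocFree_homMod)

noncomputable section

namespace Groth.L24.KrullSchmidt

section Cat

variable {C : Type v} [Category.{w} C] [Abelian C] (k : Type u) [Field k] [Linear k C]

include k in
/-- Non-units lie in the Jacobson radical. -/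
theorem mem_jacobson {Z : C} (hZ : Indec Z) [Module.Finite k (Z ⟶ Z)] (x : End Z) (hx : ¬ IsUnit x) :
    x ∈ Ring.jacobson (End Z) := by
  have hnil : IsNilpotent x := (isUnit_or_isNilpotent k hZ x).resolve_left hx
  have hyx : ∀ y : End Z, IsUnit (1 - y * x) := fun y => by
    refine (isUnit_or_isUnit_of_add k hZ (y * x) (1 - y * x) (by rw [add_sub_cancel]; exact isUnit_one)).resolve_left
      fun hu => ?_
    obtain ⟨w, hw⟩ := hu
    obtain ⟨n, hn⟩ := hnil
    have h1 : (↑w⁻¹ * y) * x = 1 := by rw [mul_assoc, ← hw, Units.inv_mul]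
    have h2 : ∀ l, x ^ l = 0 → (1 : End Z) = 0 := by
      intro l
      induction l with
      | zero => simp
      | succ l ih => exact fun hl => ih (by rw [← one_mul (x ^ l), ← h1, mul_assoc, ← pow_succ', hl, mul_zero])
    exact hZ.1 ((IsZero.iff_id_eq_zero Z).2 (h2 n hn))
  rw [Ring.jacobson, Module.jacobson, Submodule.mem_sInf]
  intro M hM
  by_contra hxM
  have htop : M ⊔ Ideal.span {x} = ⊤ := hM.2 _ (lt_of_le_of_ne le_sup_left fun h => hxM
    (h ▸ (le_sup_right : Ideal.span {x} ≤ M ⊔ Ideal.span {x}) (Ideal.mem_span_singleton_self x)))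
  obtain ⟨m, hm, z, hz, hmz⟩ := Submodule.mem_sup.1 (htop.ge (Submodule.mem_top : (1 : End Z) ∈ ⊤))
  obtain ⟨y, rfl⟩ := Ideal.mem_span_singleton'.1 hz
  have : m = 1 - y * x := eq_sub_of_add_eq hmz
  exact hM.1 (Ideal.eq_top_of_isUnit_mem _ (this ▸ hm) (hyx y))

include k in
/-- The non-units form a nilpotent set. -/
theorem exists_jacobson_pow (Z : C) [Module.Finite k (Z ⟶ Z)] : ∃ N : ℕ, Ring.jacobson (End Z) ^ N = ⊥ := by
  haveI : Module.Finite k (End Z) := ‹Module.Finite k (Z ⟶ Z)›
  haveI : IsArtinianRing (End Z) := IsArtinianRing.of_finite k _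
  obtain ⟨N, hN⟩ := IsSemiprimaryRing.isNilpotent (R := End Z)
  exact ⟨N, hN⟩

/-- A retract of an indecomposable object is all of it. -/
theorem nonempty_iso_of_retract {Z Z' : C} (hZ : ¬ IsZero Z) (hZ' : Indec Z') (a : Z ⟶ Z') (b : Z' ⟶ Z)
    (h : a ≫ b = 𝟙 Z) : Nonempty (Z ≅ Z') := by
  rcases idem_eq_zero_or_one hZ' (b ≫ a) (by rw [Category.assoc, reassoc_of% h]) with h0 | h1
  · refine absurd ((IsZero.iff_id_eq_zero Z).2 ?_) hZ
    calc 𝟙 Z = (a ≫ b) ≫ a ≫ b := by rw [h, Category.comp_id]
      _ = a ≫ (b ≫ a) ≫ b := by simp only [Category.assoc]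
      _ = 0 := by rw [h0, Limits.zero_comp, Limits.comp_zero]
  · exact ⟨⟨a, b, h, h1⟩⟩

end Cat

section Descent

variable {k : Type u} [Field k] {X : Scheme.{u}} [X.Over (Spec (CommRingCat.of k))]
  [IsProper (X ↘ Spec (CommRingCat.of k))]
  {K : Type u} [Field K] [Algebra k K] {Y : Scheme.{u}} [Y.Over (Spec (CommRingCat.of K))] (g : Y ⟶ X)
  (sq : IsPullback g (Y ↘ Spec (CommRingCat.of K)) (X ↘ Spec (CommRingCat.of k))
    (Spec.map (CommRingCat.ofHom (algebraMap k K))))

theorem globalEquiv_smul {M N : Y.Modules} (c : K) (φ : M ⟶ N) :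
    globalEquiv M N (c • φ) =
      ProjUP.toGlobal (Y ↘ Spec (CommRingCat.of K)) c • globalEquiv M N φ := by
  refine Groth.L16.HomSh.sec_ext fun W h x => ?_
  exact KLin.smul_app_apply c φ W x

include sq in
/-- Homomorphisms after a field extension are combinations of base changed ones. -/
theorem exists_sum_map {E E' : X.Modules} (hE : FlatMod.IsFinLocFree E) (hE' : FlatMod.IsFinLocFree E')
    (f : (Scheme.Modules.pullback g).obj E ⟶ (Scheme.Modules.pullback g).obj E') :
    ∃ (n : ℕ) (α : Fin n → (E ⟶ E')) (c : Fin n → K), f = ∑ j, c j • (Scheme.Modules.pullback g).map (α j) := by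
  haveI : CompactSpace X := QuasiCompact.compactSpace_of_compactSpace (X ↘ Spec (CommRingCat.of k))
  haveI : QuasiSeparatedSpace X := quasiSeparatedSpace_of_quasiSeparated (X ↘ Spec (CommRingCat.of k))
  haveI : Coh.IsQCoh (homMod E E') := Groth.L04.FinLocFreeHom.isQCoh_of_finLocFree (isFinLocFree_homMod hE hE')
  haveI := isIso_pullHomMap g hE hE'
  let t : Γ((Scheme.Modules.pullback g).obj (homMod E E'), ⊤) :=
    (inv (pullHomMap g E E')).app ⊤ (globalEquiv _ _ f)
  obtain ⟨n, S, c, ht⟩ := Groth.L21.PicExt.exists_sum_pullSec g sq t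
  refine ⟨n, fun j => (globalEquiv E E').symm (S j), c, (globalEquiv _ _).injective ?_⟩
  have h : (pullHomMap g E E').app ⊤ t = globalEquiv _ _ f :=
    congr($(congrArg (fun q => Scheme.Modules.Hom.app q ⊤) (IsIso.inv_hom_id (pullHomMap g E E'))) _)
  rw [← h, ht, map_sum, map_sum]
  refine Finset.sum_congr rfl fun j _ => ?_
  rw [Scheme.Modules.Hom.app_smul, globalEquiv_smul, ← pullHomMap_globalEquiv, AddEquiv.apply_symm_apply]
  rfl

include sq in
/-- Two indecomposable bundles with pullbacks isotypical of the same type are isomorphic. -/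
theorem nonempty_iso_of_isotypical {E E' : X.Modules} (hE : FlatMod.IsFinLocFree E) (hE' : FlatMod.IsFinLocFree E')
    (hEi : Indec E) (hE'i : Indec E') {W : Y.Modules} (r s : ℕ)
    (e : (Scheme.Modules.pullback g).obj E ≅ ∐ fun _ : Fin r => W)
    (e' : (Scheme.Modules.pullback g).obj E' ≅ ∐ fun _ : Fin s => W) : Nonempty (E ≅ E') := by
  classical
  by_contra hne
  haveI : IsLocallyNoetherian X := LocallyOfFiniteType.isLocallyNoetherian (X ↘ Spec (CommRingCat.of k))
  haveI : Coh.IsQCoh E := Groth.L04.FinLocFreeHom.isQCoh_of_finLocFree hE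
  haveI : Coh.IsQCoh E' := Groth.L04.FinLocFreeHom.isQCoh_of_finLocFree hE'
  have hcE : Coh.IsCoh E := Groth.L16.NegPow.isCoh_of_isFinLocFree hE
  haveI : Module.Finite k (E ⟶ E) := Groth.L14.Quot.finite_hom hcE hcE
  haveI : Flat g := MorphismProperty.of_isPullback (P := @Flat) sq.flip (Groth.L03.ShStab.BC.flat_specMap K)
  haveI : Surjective g :=
    MorphismProperty.of_isPullback (P := @Surjective) sq.flip (Groth.L03.ShStab.BC.surjective_specMap K)
  let G := Scheme.Modules.pullback g
  have hnz : ∀ {A : X.Modules} [Coh.IsQCoh A], ¬ IsZero A → ∀ {n : ℕ}, (G.obj A ≅ ∐ fun _ : Fin n => W) → 0 < n := by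
    intro A _ hA n i
    refine Nat.pos_of_ne_zero fun h0 => hA (Groth.L03.ShStab.BC.isZero_of_pullback g ?_)
    subst h0
    exact IsZero.of_iso ((IsZero.iff_id_eq_zero _).2 (Sigma.hom_ext _ _ fun j => j.elim0)) i
  have hs : 0 < s := hnz hE'i.1 e'
  let ι : W ⟶ G.obj E' := Sigma.ι (fun _ : Fin s => W) ⟨0, hs⟩ ≫ e'.inv
  let π : G.obj E' ⟶ W := e'.hom ≫ Sigma.desc fun j => if j = ⟨0, hs⟩ then 𝟙 W else 0
  have hιπ : ι ≫ π = 𝟙 W := by simp [ι, π]
  -- composites through the other bundle are not invertible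
  have hJ : ∀ (α : E ⟶ E') (β : E' ⟶ E), (show End E from α ≫ β) ∈ Ring.jacobson (End E) := fun α β =>
    mem_jacobson k hEi _ fun hu => hne (by
      haveI : IsIso (α ≫ β) := (isUnit_iff_isIso (show End E from α ≫ β)).1 hu
      exact nonempty_iso_of_retract hEi.1 hE'i α (β ≫ inv (α ≫ β))
        (by rw [← Category.assoc, IsIso.hom_inv_id]))
  let T : ℕ → Submodule K (G.obj E ⟶ G.obj E) := fun j =>
    Submodule.span K ((fun x : End E => G.map (show E ⟶ E from x)) '' ((Ring.jacobson (End E) ^ j : Ideal (End E)) : Set (End E)))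
  have h1 : 𝟙 (G.obj E) ∈ T 1 := by
    have hfac : ∀ (a : G.obj E ⟶ G.obj E') (b : G.obj E' ⟶ G.obj E), a ≫ b ∈ T 1 := by
      intro a b
      obtain ⟨n, α, c, rfl⟩ := exists_sum_map g sq hE hE' a
      obtain ⟨m, β, d, rfl⟩ := exists_sum_map g sq hE' hE b
      rw [Preadditive.sum_comp]
      refine Submodule.sum_mem _ fun i _ => ?_
      rw [Preadditive.comp_sum]
      refine Submodule.sum_mem _ fun j _ => ?_
      rw [Linear.smul_comp, Linear.comp_smul, ← Functor.map_comp]
      refine Submodule.smul_mem _ _ (Submodule.smul_mem _ _ (Submodule.subset_span ⟨α i ≫ β j, ?_, rfl⟩))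
      rw [SetLike.mem_coe, Submodule.pow_one]
      exact hJ _ _
    let p : Fin r → ((∐ fun _ : Fin r => W) ⟶ W) := fun j => Sigma.desc fun l => if l = j then 𝟙 W else 0
    have hsum : ∑ j, p j ≫ Sigma.ι (fun _ : Fin r => W) j = 𝟙 _ := Sigma.hom_ext _ _ fun l => by
      rw [Preadditive.comp_sum, Category.comp_id, Finset.sum_eq_single l]
      · simp [p]
      · intro j _ hj
        simp [p, Ne.symm hj]
      · exact fun hl => absurd (Finset.mem_univ l) hl
    have hid : 𝟙 (G.obj E) = ∑ j, (e.hom ≫ p j ≫ ι) ≫ (π ≫ Sigma.ι (fun _ : Fin r => W) j ≫ e.inv) := by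
      simp only [Category.assoc, reassoc_of% hιπ]
      rw [← e.hom_inv_id]
      conv_lhs => rw [← Category.id_comp e.inv, ← hsum, Preadditive.sum_comp, Preadditive.comp_sum]
      simp only [Category.assoc]
    rw [hid]
    exact Submodule.sum_mem _ fun j _ => hfac _ _
  have hmul : ∀ (j : ℕ) (x y : G.obj E ⟶ G.obj E), x ∈ T 1 → y ∈ T j → x ≫ y ∈ T (j + 1) := by
    intro j x y hx hy
    induction hx using Submodule.span_induction with
    | mem x hx =>
      induction hy using Submodule.span_induction with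
      | mem y hy =>
        obtain ⟨a, ha, rfl⟩ := hx
        obtain ⟨b, hb, rfl⟩ := hy
        refine Submodule.subset_span ⟨b * a, ?_, G.map_comp a b⟩
        rw [SetLike.mem_coe, Submodule.pow_one] at ha
        rw [SetLike.mem_coe, Submodule.pow_succ]
        exact Ideal.mul_mem_mul hb ha
      | zero => rw [Limits.comp_zero]; exact zero_mem _
      | add y z _ _ hy hz => rw [Preadditive.comp_add]; exact add_mem hy hz
      | smul c y _ hy => rw [Linear.comp_smul]; exact Submodule.smul_mem _ _ hy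
    | zero => rw [Limits.zero_comp]; exact zero_mem _
    | add x z _ _ hx hz => rw [Preadditive.add_comp]; exact add_mem hx hz
    | smul c x _ hx => rw [Linear.smul_comp]; exact Submodule.smul_mem _ _ hx
  have hall : ∀ j, 𝟙 (G.obj E) ∈ T (j + 1) := by
    intro j
    induction j with
    | zero => exact h1
    | succ j ih =>
      have := hmul (j + 1) _ _ h1 ih
      rwa [Category.comp_id] at this
  obtain ⟨N, hN⟩ := exists_jacobson_pow k E
  have hbot : Ring.jacobson (End E) ^ (N + 1) = ⊥ := by rw [Submodule.pow_succ, hN, Submodule.bot_mul]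
  have h0 := hall N
  simp only [T, hbot, Submodule.bot_coe, Set.image_singleton] at h0
  rw [show G.map (show E ⟶ E from (0 : End E)) = 0 from G.map_zero E E, Submodule.span_zero_singleton,
    Submodule.mem_bot] at h0
  exact hEi.1 (Groth.L03.ShStab.BC.isZero_of_pullback g ((IsZero.iff_id_eq_zero _).2 h0))

end Descent

end Groth.L24.KrullSchmidt
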