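import Groth.Agent.L16.HomSh.Coherent
import Groth.Agent.L16.HomSh.Adjunction
import Groth.Agent.L16.AffineBC.Pullback
import Groth.Agent.L17.BC.Sheaf
import Groth.Agent.L01.ExtBC

/-!
# Flat pullback commutes with the sheaf of homomorphisms of coherent modules
-/

set_option autoImplicit false
set_option linter.style.haveILetI false
set_option backward.isDefEq.respectTransparency false
set_option backward.isDefEq.respectTransparency.types false

universe u

open CategoryTheory AlgebraicGeometry TopologicalSpace Opposite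
open scoped TensorProduct

noncomputable section

namespace Groth.L24.KrullSchmidt

open Groth.L18.Frame (rs ro pull rs_rs rs_self rs_smul)
open Groth.L16.HomSh
open Groth.L16.AffineBC (pullRes isBaseChange_pull)

variable {X Y : Scheme.{u}} (g : Y ⟶ X)

/-- Flat pullback commutes with the sheaf of homomorphisms of coherent modules. -/
theorem isIso_pullHomMap_flat [IsLocallyNoetherian X] [Flat g] {F G : X.Modules} (hF : Coh.IsCoh F)
    (hG : Coh.IsCoh G) : IsIso (pullHomMap g F G) := by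
  haveI : Coh.IsQCoh F := hF.1
  haveI : Coh.IsQCoh G := hG.1
  haveI : Coh.IsQCoh (homMod F G) := (isCoh_homMod hF hG).1
  haveI : Coh.IsQCoh ((Scheme.Modules.pullback g).obj F) := Groth.L16.AffineBC.isQCoh_pullback g F
  refine Groth.L17.BC.Classes.isIso_of_affine _ fun y => ?_
  obtain ⟨_, ⟨V, hV, rfl⟩, hyV, -⟩ :=
    X.isBasis_affineOpens.exists_subset_of_mem_open (Set.mem_univ (g y)) isOpen_univ
  refine ⟨g ⁻¹ᵁ V, hyV, fun U le hU => ?_⟩
  haveI : IsNoetherianRing Γ(X, V) := IsLocallyNoetherian.component_noetherian ⟨V, hV⟩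
  haveI : Module.Finite Γ(X, V) Γ(F, V) := Groth.L20.ModStalk.finite_sections F hF hV
  haveI : Module.FinitePresentation Γ(X, V) Γ(F, V) := Module.finitePresentation_of_finite _ _
  letI : Algebra Γ(X, V) Γ(Y, U) := (g.appLE V U le).hom.toAlgebra
  haveI : Module.Flat Γ(X, V) Γ(Y, U) := g.flat_appLE hV hU le
  obtain ⟨eV, heV⟩ := exists_linearEquiv (M := F) (N := G) hV
  obtain ⟨eU, heU⟩ := exists_linearEquiv (M := (Scheme.Modules.pullback g).obj F)
    (N := (Scheme.Modules.pullback g).obj G) hU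
  letI mF : Module Γ(X, V) Γ((Scheme.Modules.pullback g).obj F, U) := Module.compHom _ (g.appLE V U le).hom
  letI mG : Module Γ(X, V) Γ((Scheme.Modules.pullback g).obj G, U) := Module.compHom _ (g.appLE V U le).hom
  letI mH : Module Γ(X, V) Γ((Scheme.Modules.pullback g).obj (homMod F G), U) :=
    Module.compHom _ (g.appLE V U le).hom
  haveI : IsScalarTower Γ(X, V) Γ(Y, U) Γ((Scheme.Modules.pullback g).obj F, U) :=
    IsScalarTower.of_algebraMap_smul fun _ _ => rfl
  haveI : IsScalarTower Γ(X, V) Γ(Y, U) Γ((Scheme.Modules.pullback g).obj G, U) :=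
    IsScalarTower.of_algebraMap_smul fun _ _ => rfl
  haveI : IsScalarTower Γ(X, V) Γ(Y, U) Γ((Scheme.Modules.pullback g).obj (homMod F G), U) :=
    IsScalarTower.of_algebraMap_smul fun _ _ => rfl
  have hbF : IsBaseChange Γ(Y, U) (pullRes g F le) := isBaseChange_pull g F hV hU le
  have hbG : IsBaseChange Γ(Y, U) (pullRes g G le) := isBaseChange_pull g G hV hU le
  have hbH : IsBaseChange Γ(Y, U) (pullRes g (homMod F G) le) := isBaseChange_pull g _ hV hU le
  let T : Γ((Scheme.Modules.pullback g).obj (homMod F G), U) →ₗ[Γ(Y, U)]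
      Γ(homMod ((Scheme.Modules.pullback g).obj F) ((Scheme.Modules.pullback g).obj G), U) :=
    { toFun := (pullHomMap g F G).app U
      map_add' := map_add _
      map_smul' := fun a s => (pullHomMap g F G).app_smul a s }
  let Ψ : Γ((Scheme.Modules.pullback g).obj (homMod F G), U) ≃ₗ[Γ(Y, U)]
      (Γ(Y, U) ⊗[Γ(X, V)] Γ(F, V) →ₗ[Γ(Y, U)] Γ(Y, U) ⊗[Γ(X, V)] Γ(G, V)) :=
    hbH.equiv.symm ≪≫ₗ TensorProduct.AlgebraTensorModule.congr (LinearEquiv.refl Γ(Y, U) Γ(Y, U)) eV ≪≫ₗ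
      Groth.L01.ExtBC.homEquiv (A := Γ(X, V)) Γ(Y, U) Γ(F, V) Γ(G, V)
  let Φ : Γ(homMod ((Scheme.Modules.pullback g).obj F) ((Scheme.Modules.pullback g).obj G), U) ≃ₗ[Γ(Y, U)]
      (Γ(Y, U) ⊗[Γ(X, V)] Γ(F, V) →ₗ[Γ(Y, U)] Γ(Y, U) ⊗[Γ(X, V)] Γ(G, V)) :=
    eU ≪≫ₗ LinearEquiv.arrowCongr hbF.equiv.symm hbG.equiv.symm
  have key : ∀ s, Φ (T s) = Ψ s := by
    refine fun s => LinearMap.congr_fun (f := Φ.toLinearMap ∘ₗ T) (g := Ψ.toLinearMap) ?_ s
    refine hbH.algHom_ext _ _ fun t => ?_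
    refine TensorProduct.AlgebraTensorModule.ext fun b m => ?_
    rw [show (b ⊗ₜ[Γ(X, V)] m : Γ(Y, U) ⊗[Γ(X, V)] Γ(F, V)) = b • ((1 : Γ(Y, U)) ⊗ₜ[Γ(X, V)] m) by
      rw [TensorProduct.smul_tmul', smul_eq_mul, mul_one], map_smul, map_smul]
    refine congrArg (b • ·) ?_
    have h1 : Ψ (pullRes g (homMod F G) le t) ((1 : Γ(Y, U)) ⊗ₜ[Γ(X, V)] m) = (1 : Γ(Y, U)) ⊗ₜ[Γ(X, V)] (eV t m) := by
      simp only [Ψ, LinearEquiv.trans_apply, IsBaseChange.equiv_symm_apply,
        TensorProduct.AlgebraTensorModule.congr_tmul, LinearEquiv.refl_apply]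
      show Groth.L01.ExtBC.homMap (A := Γ(X, V)) Γ(Y, U) Γ(F, V) Γ(G, V) _ _ = _
      rw [Groth.L01.ExtBC.homMap_tmul, one_smul, LinearMap.baseChange_tmul]
    refine Eq.trans ?_ h1.symm
    apply hbG.equiv.injective
    show hbG.equiv (hbG.equiv.symm (eU (T (pullRes g (homMod F G) le t)) (hbF.equiv ((1 : Γ(Y, U)) ⊗ₜ m)))) = _
    rw [LinearEquiv.apply_symm_apply, IsBaseChange.equiv_tmul, IsBaseChange.equiv_tmul, one_smul, one_smul, heU, heV]
    show ev (secEquiv U ((pullHomMap g F G).app U (rs _ le (pull g (homMod F G) V t)))) le_rfl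
      (rs _ le (pull g F V m)) = rs _ le (pull g G V (ev (secEquiv V t) le_rfl m))
    rw [hom_app_rs, secEquiv_rs, ← ev_pullHomMap g t le_rfl m, ev_rs]
  have hT : Function.Bijective T := by
    have h : (T : _ → _) = Φ.symm ∘ Ψ := funext fun s => by
      rw [Function.comp_apply, ← key, LinearEquiv.symm_apply_apply]
    rw [h]
    exact Φ.symm.bijective.comp Ψ.bijective
  exact hT

end Groth.L24.KrullSchmidt
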