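import Groth.Agent.L24.KrullSchmidt.Descent
import Groth.Agent.L24.KrullSchmidt.HomPull
import Groth.Agent.L24.KrullSchmidt.Cancel
import Groth.Agent.L24.KrullSchmidt.Isotypical
import Groth.Agent.L18.LocFreeTilde

/-!
# Isomorphism classes of coherent modules do not merge under field extensions
-/

set_option autoImplicit false
set_option linter.style.haveILetI false
set_option backward.isDefEq.respectTransparency false
set_option backward.isDefEq.respectTransparency.types false

universe u

open CategoryTheory CategoryTheory.Limits AlgebraicGeometry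
open Groth.L16.HomSh (homMod globalEquiv pullHomMap pullHomMap_globalEquiv isCoh_homMod)
open Groth.L21.Weil (IsRetract)

attribute [local instance] preservesBinaryBiproducts_of_preservesBinaryCoproducts

noncomputable section

namespace Groth.L24.KrullSchmidt

variable {k : Type u} [Field k] {X : Scheme.{u}} [X.Over (Spec (CommRingCat.of k))]
  [IsProper (X ↘ Spec (CommRingCat.of k))]
  {K : Type u} [Field K] [Algebra k K] {Y : Scheme.{u}} [Y.Over (Spec (CommRingCat.of K))] (g : Y ⟶ X)
  (sq : IsPullback g (Y ↘ Spec (CommRingCat.of K)) (X ↘ Spec (CommRingCat.of k))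
    (Spec.map (CommRingCat.ofHom (algebraMap k K))))

include sq in
/-- Homomorphisms of coherent modules after a field extension are combinations of base changed ones. -/
theorem exists_sum_map_coh {E E' : X.Modules} (hE : Coh.IsCoh E) (hE' : Coh.IsCoh E')
    (f : (Scheme.Modules.pullback g).obj E ⟶ (Scheme.Modules.pullback g).obj E') :
    ∃ (n : ℕ) (α : Fin n → (E ⟶ E')) (c : Fin n → K), f = ∑ j, c j • (Scheme.Modules.pullback g).map (α j) := by
  haveI : CompactSpace X := QuasiCompact.compactSpace_of_compactSpace (X ↘ Spec (CommRingCat.of k))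
  haveI : QuasiSeparatedSpace X := quasiSeparatedSpace_of_quasiSeparated (X ↘ Spec (CommRingCat.of k))
  haveI : IsLocallyNoetherian X := LocallyOfFiniteType.isLocallyNoetherian (X ↘ Spec (CommRingCat.of k))
  haveI : Flat g := MorphismProperty.of_isPullback (P := @Flat) sq.flip (Groth.L03.ShStab.BC.flat_specMap K)
  haveI : Coh.IsQCoh E := hE.1
  haveI : Coh.IsQCoh E' := hE'.1
  haveI : Coh.IsQCoh (homMod E E') := (isCoh_homMod hE hE').1
  haveI := isIso_pullHomMap_flat g hE hE'
  let t : Γ((Scheme.Modules.pullback g).obj (homMod E E'), ⊤) :=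
    (inv (pullHomMap g E E')).app ⊤ (globalEquiv _ _ f)
  obtain ⟨n, S, c, ht⟩ := Groth.L21.PicExt.exists_sum_pullSec g sq t
  refine ⟨n, fun j => (globalEquiv E E').symm (S j), c, (globalEquiv _ _).injective ?_⟩
  have h : (pullHomMap g E E').app ⊤ t = globalEquiv _ _ f :=
    congr($(congrArg (fun q => Scheme.Modules.Hom.app q ⊤) (IsIso.inv_hom_id (pullHomMap g E E'))) _)
  rw [← h, ht, map_sum, map_sum]
  refine Finset.sum_congr rfl fun j _ => ?_
  rw [Scheme.Modules.Hom.app_smul, globalEquiv_smul, ← pullHomMap_globalEquiv, AddEquiv.apply_symm_apply]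
  rfl

/-- A retract of a coherent module is coherent. -/
theorem isCoh_retract {X : Scheme.{u}} [IsLocallyNoetherian X] {A M : X.Modules} (hM : Coh.IsCoh M)
    (h : IsRetract A M) : Coh.IsCoh A := by
  obtain ⟨j, p, hjp⟩ := h
  have h0 : j ≫ (𝟙 M - p ≫ j) = 0 := by
    rw [Preadditive.comp_sub, Category.comp_id, ← Category.assoc, hjp, Category.id_comp, sub_self]
  let e : kernel (𝟙 M - p ≫ j) ≅ A :=
    { hom := kernel.ι _ ≫ p
      inv := kernel.lift _ j h0
      hom_inv_id := by
        have hc := kernel.condition (𝟙 M - p ≫ j)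
        rw [Preadditive.comp_sub, Category.comp_id, sub_eq_zero] at hc
        rw [← cancel_mono (kernel.ι _), Category.assoc, kernel.lift_ι, Category.id_comp, Category.assoc, ← hc]
      inv_hom_id := by rw [kernel.lift_ι_assoc, hjp] }
  exact Groth.L16.CohSupport.isCoh_of_iso e (Groth.L16.CohKernel.isCoh_kernel_cokernel hM hM _).1

include sq in
/-- An indecomposable module which becomes a retract of another one after a field extension is one. -/
theorem isRetract_of_pullback {E G : X.Modules} (hE : Coh.IsCoh E) (hG : Coh.IsCoh G) (hEi : Indec E)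
    (h : IsRetract ((Scheme.Modules.pullback g).obj E) ((Scheme.Modules.pullback g).obj G)) : IsRetract E G := by
  classical
  by_contra hne
  haveI : Module.Finite k (E ⟶ E) := Groth.L14.Quot.finite_hom hE hE
  haveI : Flat g := MorphismProperty.of_isPullback (P := @Flat) sq.flip (Groth.L03.ShStab.BC.flat_specMap K)
  haveI : Surjective g :=
    MorphismProperty.of_isPullback (P := @Surjective) sq.flip (Groth.L03.ShStab.BC.surjective_specMap K)
  let P := Scheme.Modules.pullback g
  have hJ : ∀ (α : E ⟶ G) (β : G ⟶ E), (show End E from α ≫ β) ∈ Ring.jacobson (End E) := fun α β =>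
    mem_jacobson k hEi _ fun hu => hne (by
      haveI : IsIso (α ≫ β) := (isUnit_iff_isIso (show End E from α ≫ β)).1 hu
      exact ⟨α, β ≫ inv (α ≫ β), by rw [← Category.assoc, IsIso.hom_inv_id]⟩)
  let T : ℕ → Submodule K (P.obj E ⟶ P.obj E) := fun j =>
    Submodule.span K ((fun x : End E => P.map (show E ⟶ E from x)) '' ((Ring.jacobson (End E) ^ j : Ideal (End E)) : Set (End E)))
  have h1 : 𝟙 (P.obj E) ∈ T 1 := by
    obtain ⟨a, b, hab⟩ := h
    rw [← hab]
    obtain ⟨n, α, c, rfl⟩ := exists_sum_map_coh g sq hE hG a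
    obtain ⟨m, β, d, rfl⟩ := exists_sum_map_coh g sq hG hE b
    rw [Preadditive.sum_comp]
    refine Submodule.sum_mem _ fun i _ => ?_
    rw [Preadditive.comp_sum]
    refine Submodule.sum_mem _ fun j _ => ?_
    rw [Linear.smul_comp, Linear.comp_smul, ← Functor.map_comp]
    refine Submodule.smul_mem _ _ (Submodule.smul_mem _ _ (Submodule.subset_span ⟨α i ≫ β j, ?_, rfl⟩))
    rw [SetLike.mem_coe, Submodule.pow_one]
    exact hJ _ _
  have hmul : ∀ (j : ℕ) (x y : P.obj E ⟶ P.obj E), x ∈ T 1 → y ∈ T j → x ≫ y ∈ T (j + 1) := by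
    intro j x y hx hy
    induction hx using Submodule.span_induction with
    | mem x hx =>
      induction hy using Submodule.span_induction with
      | mem y hy =>
        obtain ⟨a, ha, rfl⟩ := hx
        obtain ⟨b, hb, rfl⟩ := hy
        refine Submodule.subset_span ⟨b * a, ?_, P.map_comp a b⟩
        rw [SetLike.mem_coe, Submodule.pow_one] at ha
        rw [SetLike.mem_coe, Submodule.pow_succ]
        exact Ideal.mul_mem_mul hb ha
      | zero => rw [Limits.comp_zero]; exact zero_mem _
      | add y z _ _ hy hz => rw [Preadditive.comp_add]; exact add_mem hy hz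
      | smul c y _ hy => rw [Linear.comp_smul]; exact Submodule.smul_mem _ _ hy
    | zero => rw [Limits.zero_comp]; exact zero_mem _
    | add x z _ _ hx hz => rw [Preadditive.add_comp]; exact add_mem hx hz
    | smul c x _ hx => rw [Linear.smul_comp]; exact Submodule.smul_mem _ _ hx
  have hall : ∀ j, 𝟙 (P.obj E) ∈ T (j + 1) := by
    intro j
    induction j with
    | zero => exact h1
    | succ j ih =>
      have := hmul (j + 1) _ _ h1 ih
      rwa [Category.comp_id] at this
  obtain ⟨N, hN⟩ := exists_jacobson_pow k E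
  have hbot : Ring.jacobson (End E) ^ (N + 1) = ⊥ := by rw [Submodule.pow_succ, hN, Submodule.bot_mul]
  have h0 := hall N
  simp only [T, hbot, Submodule.bot_coe, Set.image_singleton] at h0
  rw [show P.map (show E ⟶ E from (0 : End E)) = 0 from P.map_zero E E, Submodule.span_zero_singleton,
    Submodule.mem_bot] at h0
  exact hEi.1 (Groth.L03.ShStab.BC.isZero_of_pullback g ((IsZero.iff_id_eq_zero _).2 h0))

include sq in
/-- Coherent modules which become isomorphic over a field extension are isomorphic. -/
theorem nonempty_iso_of_pullback_iso : ∀ (r : ℕ) {F G : X.Modules} (_ : Coh.IsCoh F) (_ : Coh.IsCoh G),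
    Module.finrank k (F ⟶ F) = r → ((Scheme.Modules.pullback g).obj F ≅ (Scheme.Modules.pullback g).obj G) →
    Nonempty (F ≅ G) := by
  haveI : IsLocallyNoetherian X := LocallyOfFiniteType.isLocallyNoetherian (X ↘ Spec (CommRingCat.of k))
  haveI : Flat g := MorphismProperty.of_isPullback (P := @Flat) sq.flip (Groth.L03.ShStab.BC.flat_specMap K)
  haveI : Surjective g :=
    MorphismProperty.of_isPullback (P := @Surjective) sq.flip (Groth.L03.ShStab.BC.surjective_specMap K)
  haveI : IsProper (Y ↘ Spec (CommRingCat.of K)) := MorphismProperty.of_isPullback (P := @IsProper) sq inferInstance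
  haveI := (Scheme.Modules.pullbackPushforwardAdjunction g).leftAdjoint_preservesColimits
  intro r
  induction r using Nat.strong_induction_on with
  | _ r ih =>
    intro F G hF hG hr e
    haveI : Module.Finite k (F ⟶ F) := Groth.L14.Quot.finite_hom hF hF
    by_cases hz : IsZero F
    · refine ⟨hz.iso (Groth.L03.ShStab.BC.isZero_of_pullback g ?_)⟩
      exact ((Scheme.Modules.pullback g).map_isZero hz).of_iso e.symm
    obtain ⟨n, f, hf, ⟨d⟩⟩ := exists_decomp k _ F rfl
    have hn : 0 < n := Nat.pos_of_ne_zero fun h => hz (by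
      subst h
      exact ((IsZero.iff_id_eq_zero _).2 (Sigma.hom_ext _ _ fun i => i.elim0)).of_iso d)
    let A := f ⟨0, hn⟩
    have hretF : IsRetract A F := (isRetract_member f _).trans (IsRetract.of_iso d.symm)
    have hA : Coh.IsCoh A := isCoh_retract hF hretF
    have hretG : IsRetract A G := by
      refine isRetract_of_pullback g sq hA hG (hf _) ?_
      obtain ⟨j, q, hjq⟩ := hretF
      exact IsRetract.trans ⟨(Scheme.Modules.pullback g).map j, (Scheme.Modules.pullback g).map q,
        by rw [← Functor.map_comp, hjq, CategoryTheory.Functor.map_id]⟩ (IsRetract.of_iso e)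
    obtain ⟨j, q, hjq⟩ := hretF
    obtain ⟨j', q', hjq'⟩ := hretG
    obtain ⟨iF⟩ := Groth.L18.LFP.retract_biprod j q hjq
    obtain ⟨iG⟩ := Groth.L18.LFP.retract_biprod j' q' hjq'
    have hF' : Coh.IsCoh (cokernel j) :=
      (Groth.L16.CohKernel.isCoh_kernel_cokernel hA hF j).2
    have hG' : Coh.IsCoh (cokernel j') :=
      (Groth.L16.CohKernel.isCoh_kernel_cokernel hA hG j').2
    -- cancellation over the extension
    let P := Scheme.Modules.pullback g
    haveI : PreservesColimitsOfSize.{0, 0} P := preservesColimitsOfSize_shrink.{0, u, 0, u} _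
    have hP : ∀ {M : X.Modules}, Coh.IsCoh M → Coh.IsCoh (P.obj M) := fun hM =>
      Groth.L16.AffineBC.isCoh_pullback g hM
    haveI : IsLocallyNoetherian Y := LocallyOfFiniteType.isLocallyNoetherian (Y ↘ Spec (CommRingCat.of K))
    have hfinK : ∀ {M : Y.Modules}, Coh.IsCoh M → Module.Finite K (M ⟶ M) := fun hM => Groth.L14.Quot.finite_hom hM hM
    let eF : P.obj A ⊞ P.obj (cokernel j) ≅ P.obj F := (P.mapBiprod _ _).symm ≪≫ P.mapIso iF
    let eG : P.obj A ⊞ P.obj (cokernel j') ≅ P.obj G := (P.mapBiprod _ _).symm ≪≫ P.mapIso iG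
    haveI := hfinK (hP hA)
    haveI := hfinK (hP hF')
    haveI := hfinK (hP hG')
    haveI := hfinK (Groth.L16.CohSupport.isCoh_of_iso eF.symm (hP hF))
    obtain ⟨e'⟩ := nonempty_iso_of_biprod K (eF ≪≫ e ≪≫ eG.symm)
    -- the complement is smaller
    have hlt : Module.finrank k (cokernel j ⟶ cokernel j) < r := by
      have hinj := prodEnd_injective k iF.symm
      haveI : Module.Finite k ((A ⟶ A) × (cokernel j ⟶ cokernel j)) := Module.Finite.of_injective _ hinj
      haveI : Module.Finite k (A ⟶ A) := Groth.L14.Quot.finite_hom hA hA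
      haveI : Module.Finite k (cokernel j ⟶ cokernel j) := Groth.L14.Quot.finite_hom hF' hF'
      haveI : Nontrivial (A ⟶ A) := ⟨⟨𝟙 A, 0, fun h => (hf _).1 ((IsZero.iff_id_eq_zero A).2 h)⟩⟩
      have hle := LinearMap.finrank_le_finrank_of_injective hinj
      rw [Module.finrank_prod, hr] at hle
      have : 0 < Module.finrank k (A ⟶ A) := Module.finrank_pos
      omega
    obtain ⟨h'⟩ := ih _ hlt hF' hG' rfl e'
    exact ⟨iF.symm ≪≫ biprod.mapIso (Iso.refl A) h' ≪≫ iG⟩

end Groth.L24.KrullSchmidt
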