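import Groth.Agent.L24.KrullSchmidt.Fitting
import Groth.Agent.L21.Weil.Retract
import Mathlib.LinearAlgebra.FiniteDimensional.Basic

/-!
# Krull–Schmidt for objects with finite-dimensional endomorphism rings
-/

set_option autoImplicit false
set_option linter.style.haveILetI false
set_option backward.isDefEq.respectTransparency false

universe u v w

open CategoryTheory CategoryTheory.Limits
open Groth.L21.Weil (IsRetract)

noncomputable section

namespace Groth.L24.KrullSchmidt

variable {C : Type v} [Category.{w} C] [Abelian C] (k : Type u) [Field k] [Linear k C]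

/-- The number of members of a family isomorphic to a given object. -/
def cnt {ι : Type} [Finite ι] (f : ι → C) (Z : C) : ℕ := Nat.card {i : ι // Nonempty (f i ≅ Z)}

include k in
/-- A summand of a sum has no more copies of an indecomposable. -/
theorem cnt_le {ι κ : Type} [Finite ι] [Finite κ] (f : ι → C) (g : κ → C) (hg : ∀ j, Indec (g j))
    (hfin : ∀ j, Module.Finite k (g j ⟶ g j)) {Z : C} (hZ : Indec Z) [Module.Finite k (Z ⟶ Z)] (h : IsRetract (∐ f) (∐ g)) : cnt f Z ≤ cnt g Z := by
  classical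
  haveI := Fintype.ofFinite ι
  haveI := Fintype.ofFinite κ
  have hZ0 := hZ.1
  haveI : Nontrivial (End Z) := ⟨⟨𝟙 Z, 0, fun h => hZ0 ((IsZero.iff_id_eq_zero Z).2 h)⟩⟩
  haveI : IsLocalRing (End Z) := IsLocalRing.of_isUnit_or_isUnit_one_sub_self fun a =>
    isUnit_or_isUnit_of_add k hZ a (1 - a) (by rw [add_sub_cancel]; exact isUnit_one)
  -- the division ring of residues
  let m : TwoSidedIdeal (End Z) := TwoSidedIdeal.mk' {a | ¬ IsUnit a} (fun h => not_isUnit_zero h) (fun ha hb hab => by
      rcases isUnit_or_isUnit_of_add k hZ _ _ hab with h | h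
      exacts [ha h, hb h])
    (fun ha hab => ha (by simpa using hab.neg))
    (fun {a b} hb hab => by
      rcases isUnit_or_isNilpotent k hZ b with h | ⟨n, hn⟩
      · exact hb h
      · obtain ⟨u, hu⟩ := hab
        have h1 : (↑u⁻¹ * a) * b = 1 := by rw [mul_assoc, ← hu, Units.inv_mul]
        have h2 : ∀ l, b ^ l = 0 → (1 : End Z) = 0 := by
          intro l
          induction l with
          | zero => simp
          | succ l ih => exact fun hl => ih (by rw [← one_mul (b ^ l), ← h1, mul_assoc, ← pow_succ', hl, mul_zero])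
        exact one_ne_zero (h2 n hn))
    (fun {a b} ha hab => by
      rcases isUnit_or_isNilpotent k hZ a with h | ⟨n, hn⟩
      · exact ha h
      · obtain ⟨u, hu⟩ := hab
        have h1 : a * (b * ↑u⁻¹) = 1 := by rw [← mul_assoc, ← hu, Units.mul_inv]
        have h2 : ∀ l, a ^ l = 0 → (1 : End Z) = 0 := by
          intro l
          induction l with
          | zero => simp
          | succ l ih => exact fun hl => ih (by rw [← mul_one (a ^ l), ← h1, ← mul_assoc, ← pow_succ, hl, zero_mul])
        exact one_ne_zero (h2 n hn))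
  have hm : ∀ {a : End Z}, a ∈ m ↔ ¬ IsUnit a := fun {a} => TwoSidedIdeal.mem_mk' _ _ _ _ _ _ a
  let π : End Z →+* m.ringCon.Quotient := m.ringCon.mk'
  have hπ : Function.Surjective π := Quotient.mk''_surjective
  have hπ0 : ∀ a, π a = 0 ↔ a ∈ m := fun a => by
    rw [TwoSidedIdeal.mem_iff]
    exact (RingCon.eq m.ringCon).trans Iff.rfl
  haveI : Nontrivial m.ringCon.Quotient := ⟨⟨π 1, π 0, fun h => by
    rw [map_zero, hπ0, hm] at h; exact h isUnit_one⟩⟩
  letI : DivisionRing m.ringCon.Quotient := DivisionRing.ofIsUnitOrEqZero fun x => by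
    obtain ⟨a, rfl⟩ := hπ x
    rcases em (IsUnit a) with h | h
    · exact Or.inl (h.map π)
    · exact Or.inr ((hπ0 a).2 (hm.2 h))
  obtain ⟨j, p, hjp⟩ := h
  let e : ∀ i : {i : ι // Nonempty (f i ≅ Z)}, Nonempty (f i.1 ≅ Z) := fun i => i.2
  let A : {i : ι // Nonempty (f i ≅ Z)} → {l : κ // Nonempty (g l ≅ Z)} → m.ringCon.Quotient := fun i l =>
    π (show Z ⟶ Z from (e i).some.inv ≫ Sigma.ι f i.1 ≫ j ≫ Sigma.desc (fun l' => if h : l' = l.1 then eqToHom (by rw [h]) else 0) ≫ l.2.some.hom)
  let B : {l : κ // Nonempty (g l ≅ Z)} → {i : ι // Nonempty (f i ≅ Z)} → m.ringCon.Quotient := fun l i =>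
    π (show Z ⟶ Z from l.2.some.inv ≫ Sigma.ι g l.1 ≫ p ≫ Sigma.desc (fun i' => if h : i' = i.1 then eqToHom (by rw [h]) else 0) ≫ (e i).some.hom)
  have key : ∀ (i i' : {i : ι // Nonempty (f i ≅ Z)}), ∑ l, B l i' * A i l = if i = i' then 1 else 0 := by
    intro i i'
    let pr : ∀ l : κ, (∐ g) ⟶ g l := fun l => Sigma.desc fun l' => if h : l' = l then eqToHom (by rw [h]) else 0
    let q' : (∐ f) ⟶ Z := Sigma.desc (fun x => if h : x = i'.1 then eqToHom (by rw [h]) else 0) ≫ (e i').some.hom
    let s : Z ⟶ ∐ f := (e i).some.inv ≫ Sigma.ι f i.1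
    let c : κ → (Z ⟶ Z) := fun l => s ≫ j ≫ pr l ≫ Sigma.ι g l ≫ p ≫ q'
    have htot : ∑ l, pr l ≫ Sigma.ι g l = 𝟙 (∐ g) := by
      refine Sigma.hom_ext _ _ fun l' => ?_
      rw [Preadditive.comp_sum, Category.comp_id, Finset.sum_eq_single l']
      · simp [pr]
      · intro l _ hl; simp [pr, Ne.symm hl]
      · intro h; exact absurd (Finset.mem_univ _) h
    have h1 : ∑ l, c l = s ≫ q' := by
      have : s ≫ j ≫ (∑ l, pr l ≫ Sigma.ι g l) ≫ p ≫ q' = s ≫ q' := by
        rw [htot, Category.id_comp, reassoc_of% hjp]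
      rw [← this, Preadditive.sum_comp, Preadditive.comp_sum, Preadditive.comp_sum]
      simp [c]
    have h2 : s ≫ q' = if i = i' then 𝟙 Z else 0 := by
      split_ifs with h
      · subst h; simp [s, q']
      · have hne : i.1 ≠ i'.1 := fun hh => h (Subtype.ext hh)
        simp only [s, q', Category.assoc, Sigma.ι_desc_assoc, dif_neg hne, zero_comp, comp_zero]
    have h3 : ∀ l : κ, ¬ Nonempty (g l ≅ Z) → π (c l : End Z) = 0 := fun l hl => by
      rw [hπ0, hm]
      intro hu
      apply hl
      haveI : IsIso (c l) := (isUnit_iff_isIso (show End Z from c l)).1 hu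
      haveI := hfin l
      let a : Z ⟶ g l := s ≫ j ≫ pr l
      let b : g l ⟶ Z := Sigma.ι g l ≫ p ≫ q' ≫ inv (c l)
      have hab : a ≫ b = 𝟙 Z := by
        rw [← IsIso.hom_inv_id (c l)]
        simp only [a, b, c, Category.assoc]
      rcases isUnit_or_isNilpotent k (hg l) (show End (g l) from b ≫ a) with h | ⟨n, hn⟩
      · haveI : IsIso (b ≫ a) := (isUnit_iff_isIso (show End (g l) from b ≫ a)).1 h
        have : b ≫ a = 𝟙 _ := by
          rw [← cancel_mono (b ≫ a), Category.id_comp, Category.assoc, reassoc_of% hab]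
        exact ⟨⟨b, a, this, hab⟩⟩
      · exfalso
        have h5 : ∀ l', ((show End (g l) from b ≫ a) ^ (l' + 1) : End (g l)) = b ≫ a := by
          intro l'
          induction l' with
          | zero => simp
          | succ t iht =>
            rw [pow_succ, iht]
            show (b ≫ a) ≫ b ≫ a = b ≫ a
            rw [Category.assoc, reassoc_of% hab]
        have h6 : b ≫ a = 0 := by
          rcases n with _ | n
          · rw [pow_zero] at hn
            exact (IsZero.iff_id_eq_zero _).2 hn |>.eq_of_src _ _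
          · rw [← h5 n]; exact hn
        refine hZ0 ((IsZero.iff_id_eq_zero Z).2 ?_)
        have h7 := congrArg (fun x => a ≫ x ≫ b) h6
        simp only [Category.assoc, hab, zero_comp, comp_zero, Category.comp_id] at h7
        exact h7
    have h4 : ∑ l : {l : κ // Nonempty (g l ≅ Z)}, π (c l.1 : End Z) = π (if i = i' then (𝟙 Z : End Z) else 0) := by
      rw [← h2, ← h1, map_sum]
      rw [← Finset.sum_subtype (Finset.univ.filter fun l => Nonempty (g l ≅ Z)) (fun x => by simp) fun l => π (c l : End Z)]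
      exact Finset.sum_filter_of_ne fun l _ hne => by_contra fun hl => hne (h3 l hl)
    have h8 : ∀ l : {l : κ // Nonempty (g l ≅ Z)}, B l i' * A i l = π (c l.1 : End Z) := fun l => by
      rw [← map_mul]
      refine congrArg π ?_
      show (_ ≫ _ : Z ⟶ Z) = _
      simp [c, s, q', pr]
    rw [Finset.sum_congr rfl fun l _ => h8 l, h4]
    split_ifs
    exacts [map_one π, map_zero π]
  -- linear algebra over the residues
  let T : ({i : ι // Nonempty (f i ≅ Z)} → m.ringCon.Quotient) →ₗ[m.ringCon.Quotient]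
      ({l : κ // Nonempty (g l ≅ Z)} → m.ringCon.Quotient) :=
    { toFun := fun x l => ∑ i, x i * B l i
      map_add' := fun x y => funext fun l => by simp [add_mul, Finset.sum_add_distrib]
      map_smul' := fun c x => funext fun l => by simp [Finset.mul_sum, mul_assoc] }
  have hT : Function.Injective T := (injective_iff_map_eq_zero T).2 fun x hx => funext fun i => by
    have h := congrArg (fun y => ∑ l, y l * A i l) hx
    simp only [T, LinearMap.coe_mk, AddHom.coe_mk, Finset.sum_mul, Pi.zero_apply, zero_mul,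
      Finset.sum_const_zero, mul_assoc] at h
    rw [Finset.sum_comm] at h
    simp only [← Finset.mul_sum, key, mul_ite, mul_one, mul_zero, Finset.sum_ite_eq, Finset.mem_univ, if_true] at h
    exact h
  have := LinearMap.finrank_le_finrank_of_injective hT
  rw [Module.finrank_fintype_fun_eq_card, Module.finrank_fintype_fun_eq_card] at this
  simpa [cnt, Nat.card_eq_fintype_card] using this

omit [Linear k C] in
/-- Equal counts match the members up. -/
theorem exists_equiv_of_cnt {ι κ : Type} [Finite ι] [Finite κ] (f : ι → C) (g : κ → C)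
    (hf : ∀ i, cnt f (f i) = cnt g (f i)) (hg : ∀ l, cnt f (g l) = cnt g (g l)) :
    ∃ e : ι ≃ κ, ∀ i, Nonempty (f i ≅ g (e i)) := by
  classical
  haveI := Fintype.ofFinite ι
  haveI := Fintype.ofFinite κ
  have hcard : ∀ c : Skeleton C, Fintype.card {i // toSkeleton (f i) = c} = Fintype.card {l // toSkeleton (g l) = c} :=
    fun c => by
      have key : ∀ Z : C, toSkeleton Z = c → cnt f Z = cnt g Z →
          Fintype.card {i // toSkeleton (f i) = c} = Fintype.card {l // toSkeleton (g l) = c} := by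
        intro Z hZ hc
        simp only [cnt, Nat.card_eq_fintype_card] at hc
        refine (Fintype.card_congr (Equiv.subtypeEquivRight fun x => ?_)).trans (hc.trans
          (Fintype.card_congr (Equiv.subtypeEquivRight fun x => ?_)).symm)
        · rw [← hZ]; exact toSkeleton_eq_toSkeleton_iff
        · rw [← hZ]; exact toSkeleton_eq_toSkeleton_iff
      rcases isEmpty_or_nonempty {i // toSkeleton (f i) = c} with he | ⟨⟨i, hi⟩⟩
      · rcases isEmpty_or_nonempty {l // toSkeleton (g l) = c} with he' | ⟨⟨l, hl⟩⟩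
        · simp
        · exact key _ hl (hg l)
      · exact key _ hi (hf i)
  let ε : ι ≃ κ := Equiv.ofFiberEquiv fun c => Fintype.equivOfCardEq (hcard c)
  have hε : ∀ i, toSkeleton (g (ε i)) = toSkeleton (f i) := fun i =>
    Equiv.ofFiberEquiv_map (fun c => Fintype.equivOfCardEq (hcard c)) i
  exact ⟨ε, fun i => ⟨(toSkeleton_eq_toSkeleton_iff.1 (hε i)).some.symm⟩⟩

/-- The endomorphisms of two complementary summands sit inside those of the sum. -/
def prodEnd {Z A B : C} (e : Z ≅ A ⊞ B) : (A ⟶ A) × (B ⟶ B) →ₗ[k] (Z ⟶ Z) where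
  toFun x := e.hom ≫ biprod.fst ≫ x.1 ≫ biprod.inl ≫ e.inv + e.hom ≫ biprod.snd ≫ x.2 ≫ biprod.inr ≫ e.inv
  map_add' x y := by simp; abel
  map_smul' c x := by simp

theorem prodEnd_injective {Z A B : C} (e : Z ≅ A ⊞ B) : Function.Injective (prodEnd k e) :=
  (injective_iff_map_eq_zero _).2 fun x hx => by
    have h := congrArg (fun t => e.inv ≫ t ≫ e.hom) hx
    simp only [prodEnd, LinearMap.coe_mk, AddHom.coe_mk] at h
    refine Prod.ext ?_ ?_
    · simpa using congrArg (fun t => biprod.inl ≫ t ≫ biprod.fst) h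
    · simpa using congrArg (fun t => biprod.inr ≫ t ≫ biprod.snd) h

include k in
/-- Existence of a decomposition into indecomposables. -/
theorem exists_decomp : ∀ (r : ℕ) (Z : C) [Module.Finite k (Z ⟶ Z)], Module.finrank k (Z ⟶ Z) = r →
    ∃ (n : ℕ) (f : Fin n → C), (∀ i, Indec (f i)) ∧ Nonempty (Z ≅ ∐ f) := by
  intro r
  induction r using Nat.strong_induction_on with
  | _ r ih =>
    intro Z _ hr
    by_cases hz : IsZero Z
    · refine ⟨0, fun i => i.elim0, fun i => i.elim0, ⟨hz.iso ?_⟩⟩
      exact (IsZero.iff_id_eq_zero _).2 (Sigma.hom_ext _ _ fun i => i.elim0)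
    by_cases hind : ∀ A B : C, Nonempty (Z ≅ A ⊞ B) → IsZero A ∨ IsZero B
    · exact ⟨1, fun _ => Z, fun _ => ⟨hz, hind⟩, ⟨(coproductUniqueIso fun _ : Fin 1 => Z).symm⟩⟩
    push Not at hind
    obtain ⟨A, B, ⟨e⟩, hA, hB⟩ := hind
    have hinj := prodEnd_injective k e
    haveI : Module.Finite k ((A ⟶ A) × (B ⟶ B)) := Module.Finite.of_injective _ hinj
    haveI : Module.Finite k (A ⟶ A) :=
      Module.Finite.of_surjective (LinearMap.fst k (A ⟶ A) (B ⟶ B)) Prod.fst_surjective
    haveI : Module.Finite k (B ⟶ B) :=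
      Module.Finite.of_surjective (LinearMap.snd k (A ⟶ A) (B ⟶ B)) Prod.snd_surjective
    haveI : Nontrivial (A ⟶ A) := ⟨⟨𝟙 A, 0, fun h => hA ((IsZero.iff_id_eq_zero A).2 h)⟩⟩
    haveI : Nontrivial (B ⟶ B) := ⟨⟨𝟙 B, 0, fun h => hB ((IsZero.iff_id_eq_zero B).2 h)⟩⟩
    have hle := LinearMap.finrank_le_finrank_of_injective hinj
    rw [Module.finrank_prod, hr] at hle
    have ha : 0 < Module.finrank k (A ⟶ A) := Module.finrank_pos
    have hb : 0 < Module.finrank k (B ⟶ B) := Module.finrank_pos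
    obtain ⟨n₁, f₁, hf₁, ⟨e₁⟩⟩ := ih _ (by omega) A rfl
    obtain ⟨n₂, f₂, hf₂, ⟨e₂⟩⟩ := ih _ (by omega) B rfl
    refine ⟨n₁ + n₂, Fin.append f₁ f₂, fun i => Fin.addCases (fun i => by rw [Fin.append_left]; exact hf₁ i)
      (fun i => by rw [Fin.append_right]; exact hf₂ i) i, ⟨e ≪≫ biprod.mapIso e₁ e₂ ≪≫ ?_⟩⟩
    exact
      { hom := biprod.desc (Sigma.desc fun i => eqToHom (Fin.append_left f₁ f₂ i).symm ≫ Sigma.ι _ (Fin.castAdd n₂ i))
          (Sigma.desc fun i => eqToHom (Fin.append_right f₁ f₂ i).symm ≫ Sigma.ι _ (Fin.natAdd n₁ i))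
        inv := Sigma.desc fun i => Fin.addCases (motive := fun i => Fin.append f₁ f₂ i ⟶ (∐ f₁) ⊞ (∐ f₂))
          (fun i => eqToHom (Fin.append_left f₁ f₂ i) ≫ Sigma.ι f₁ i ≫ biprod.inl)
          (fun i => eqToHom (Fin.append_right f₁ f₂ i) ≫ Sigma.ι f₂ i ≫ biprod.inr) i
        hom_inv_id := by
          apply biprod.hom_ext' <;> refine Sigma.hom_ext _ _ fun i => ?_ <;> simp
        inv_hom_id := by
          refine Sigma.hom_ext _ _ fun i => ?_
          refine Fin.addCases (fun i => ?_) (fun i => ?_) i <;> simp }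

include k in
/-- Endomorphisms of a member of a decomposition are finite-dimensional. -/
theorem finite_end_member {ι : Type} [Finite ι] (f : ι → C) {Z : C} [Module.Finite k (Z ⟶ Z)] (e : Z ≅ ∐ f) (i : ι) :
    Module.Finite k (f i ⟶ f i) := by
  classical
  let p : (∐ f) ⟶ f i := Sigma.desc fun l => if h : l = i then eqToHom (by rw [h]) else 0
  have hp : Sigma.ι f i ≫ p = 𝟙 _ := by simp [p]
  let Φ : (f i ⟶ f i) →ₗ[k] (Z ⟶ Z) :=
    { toFun := fun g => e.hom ≫ p ≫ g ≫ Sigma.ι f i ≫ e.inv
      map_add' := fun g g' => by simp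
      map_smul' := fun c g => by simp }
  refine Module.Finite.of_injective Φ ((injective_iff_map_eq_zero _).2 fun g hg => ?_)
  have h := congrArg (fun t => Sigma.ι f i ≫ e.inv ≫ t ≫ e.hom ≫ p) hg
  simpa [Φ, reassoc_of% hp, hp] using h

include k in
/-- Uniqueness of the decomposition. -/
theorem unique {ι κ : Type} [Finite ι] [Finite κ] (f : ι → C) (g : κ → C) (hf : ∀ i, Indec (f i))
    (hg : ∀ l, Indec (g l)) {Z : C} [Module.Finite k (Z ⟶ Z)] (e₁ : Z ≅ ∐ f) (e₂ : Z ≅ ∐ g) :
    ∃ e : ι ≃ κ, ∀ i, Nonempty (f i ≅ g (e i)) := by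
  have hff := finite_end_member k f e₁
  have hgg := finite_end_member k g e₂
  have key : ∀ (W : C), Indec W → Module.Finite k (W ⟶ W) → cnt f W = cnt g W := fun W hW _ =>
    le_antisymm (cnt_le k f g hg hgg hW (IsRetract.of_iso (e₁.symm ≪≫ e₂)))
      (cnt_le k g f hf hff hW (IsRetract.of_iso (e₂.symm ≪≫ e₁)))
  exact exists_equiv_of_cnt f g (fun i => key _ (hf i) (hff i)) (fun l => key _ (hg l) (hgg l))

end Groth.L24.KrullSchmidt
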