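import Groth.Agent.L24.KrullSchmidt.Connected

/-!
# Retracts of sums of indecomposable objects
-/

set_option autoImplicit false
set_option linter.style.haveILetI false

universe u v w

open CategoryTheory CategoryTheory.Limits
open Groth.L21.Weil (IsRetract)

namespace Groth.L24.KrullSchmidt

/-- A retract of a sum of indecomposable objects is a sum of some of them. -/
theorem exists_coprod_of_retract {C : Type v} [Category.{w} C] [Abelian C] (k : Type u) [Field k] [Linear k C]
    {s : ℕ} {g : Fin s → C} (hg : ∀ j, Indec (g j)) (hfin : ∀ j, Module.Finite k (g j ⟶ g j))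
    {A : C} [Module.Finite k (A ⟶ A)] (h : IsRetract A (∐ g)) :
    ∃ (m : ℕ) (π : Fin m → Fin s), Nonempty (A ≅ ∐ fun l => g (π l)) := by
  classical
  obtain ⟨m, f, hf, ⟨e⟩⟩ := exists_decomp k _ A rfl
  have hex : ∀ l, ∃ j, Nonempty (g j ≅ f l) := fun l => by
    haveI := finite_end_member k f e l
    have hle := cnt_le k f g hg hfin (hf l) ((IsRetract.of_iso e.symm).trans h)
    have hpos : 0 < cnt f (f l) := by
      haveI : Nonempty {i : Fin m // Nonempty (f i ≅ f l)} := ⟨⟨l, ⟨Iso.refl _⟩⟩⟩
      exact Nat.card_pos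
    obtain ⟨⟨j, hj⟩⟩ := (Nat.card_pos_iff.1 (hpos.trans_le hle)).1
    exact ⟨j, hj⟩
  choose π hπ using hex
  exact ⟨m, π, ⟨e ≪≫ Limits.Sigma.mapIso fun l => (hπ l).some.symm⟩⟩

end Groth.L24.KrullSchmidt
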